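import Cfsg.Agent.H503.El.Fix2_m3
import Cfsg.Agent.J2Type.FiveFus
import Cfsg.Agent.KFacts.J2.Facts
import Cfsg.Agent.H503.El.O8Fin_m3
import Cfsg.Agent.H152.AbClassical
import Cfsg.Agent.S0817
import Cfsg.Agent.LieClassical.QuadCount
import Cfsg.Agent.LieClassical.OmegaReindex
import Cfsg.Agent.H957.NoFixQuad
import Cfsg.Agent.H957.Bridge
import Cfsg.Agent.H957.Points
import Cfsg.Agent.H884.ElO8
import Cfsg.Agent.Prune
set_option linter.all false

section
prune_inst 0x7ffcfcfdabb8bddfffff7e7ffffddffff9f8dfffe6dff9cbffe8ebff3bffe306abe5fbaf0fe050ff1ef6e01418b87813fb7eeeffe26bdc7ffffd5ff45ffbee1fe5ffbd0d5197bc341ffe6ffffbf07f8e7f3fffffffffffffffffffffffffffbeffbfffffffff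

-- part: H884/Od8/Row
section
prune_inst 0x40000000000000000000000000000001900023000051000840000611000000070048800800004a220000000000000000d0001000000000000000000000000a00040010ac00100000001006000000000000000000000000000000041004000000000
set_option linter.all false
open scoped Cfsg.Agent.FastGrp

-- part: H884/Od8/Abs
section
/-!
# Elementary abelian groups of order `25` acting on a quadratic space of dimension `8` over `𝔽₂` (helper884)

For the row of `Ω⁺₈(2)` in S3561.
-/

set_option autoImplicit false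

namespace Cfsg.Agent.H884.Od8

open Subgroup Cfsg.Agent.H503.El

/-- Burnside's lemma for an invariant subset -/
theorem burnside {E V : Type*} [Group E] [Fintype E] [MulAction E V] [Finite V] (P : V → Prop)
    (hP : ∀ (g : E) (v : V), P v → P (g • v)) :
    Fintype.card E ∣ ∑ g : E, Nat.card {v : V // P v ∧ g • v = v} := by
  classical
  let M : SubMulAction E V := { carrier := {v | P v}, smul_mem' := fun g v hv => hP g v hv }
  have : Fintype M := Fintype.ofFinite M
  have : ∀ g : E, Fintype (MulAction.fixedBy M g) := fun g => Fintype.ofFinite _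
  have : Fintype (Quotient (MulAction.orbitRel E M)) := Fintype.ofFinite _
  have h1 := MulAction.sum_card_fixedBy_eq_card_orbits_mul_card_group E M
  have h2 : ∀ g : E, Fintype.card (MulAction.fixedBy M g) = Nat.card {v : V // P v ∧ g • v = v} := by
    intro g
    rw [← Nat.card_eq_fintype_card]
    exact Nat.card_congr ⟨fun a => ⟨a.1.1, a.1.2, congrArg Subtype.val a.2⟩,
      fun a => ⟨⟨a.1, a.2.1⟩, Subtype.ext a.2.2⟩, fun _ => rfl, fun _ => rfl⟩
  rw [← Finset.sum_congr rfl (fun g _ => h2 g)]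
  exact Dvd.intro_left _ h1.symm

/-- sets of elements of order `5` closed under powers -/
theorem four_dvd {E : Type*} [Group E] [Fintype E] [DecidableEq E] (h5 : ∀ g : E, g ^ 5 = 1) (s : Finset E)
    (h1 : (1 : E) ∉ s) (hs : ∀ g ∈ s, ∀ k : ℕ, ¬ 5 ∣ k → g ^ k ∈ s) : 4 ∣ s.card := by
  classical
  have : Fact (Nat.Prime 5) := ⟨by norm_num⟩
  rw [Finset.card_eq_sum_card_image (fun g => zpowers g) s]
  apply Finset.dvd_sum
  intro b hb
  obtain ⟨g, hg, rfl⟩ := Finset.mem_image.1 hb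
  have hg1 : g ≠ 1 := fun h => h1 (h ▸ hg)
  have hgo : orderOf g = 5 := orderOf_eq_prime (h5 g) hg1
  have h2 : s.filter (fun a => zpowers a = zpowers g) = (Finset.Icc 1 4).image (fun k => g ^ k) := by
    ext a
    rw [Finset.mem_filter, Finset.mem_image]
    constructor
    · rintro ⟨ha, haz⟩
      have h3 : a ∈ zpowers g := by rw [← haz]; exact mem_zpowers a
      obtain ⟨k, hk, rfl⟩ := (mem_zpowers_iff_mem_range_orderOf.1 h3 |> Finset.mem_image.1)
      rw [hgo, Finset.mem_range] at hk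
      refine ⟨k, Finset.mem_Icc.2 ⟨?_, by omega⟩, rfl⟩
      by_contra hk0
      have : k = 0 := by omega
      subst this
      exact h1 (by simpa using ha)
    · rintro ⟨k, hk, rfl⟩
      rw [Finset.mem_Icc] at hk
      have hk5 : ¬ 5 ∣ k := fun hd => by
        have := Nat.le_of_dvd (by omega) hd
        omega
      refine ⟨hs g hg k hk5, ?_⟩
      apply le_antisymm
      · exact zpowers_le.2 (pow_mem (mem_zpowers g) k)
      · rw [zpowers_le]
        have h6 : Nat.Coprime 5 k := (Nat.Prime.coprime_iff_not_dvd (by norm_num)).2 hk5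
        have h7 : (zpowers (g ^ k) : Subgroup E) = zpowers g := by
          refine Subgroup.eq_of_le_of_card_ge (zpowers_le.2 (pow_mem (mem_zpowers g) k)) ?_
          rw [Nat.card_zpowers, Nat.card_zpowers, Nat.Coprime.orderOf_pow (by rw [hgo]; exact h6)]
        rw [h7]
        exact mem_zpowers g
  rw [h2, Finset.card_image_of_injOn]
  · simp
  · intro i hi j hj hij
    rw [Finset.mem_coe, Finset.mem_Icc] at hi hj
    exact pow_injOn_Iio_orderOf (by rw [Set.mem_Iio, hgo]; omega) (by rw [Set.mem_Iio, hgo]; omega) hij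

section fx

variable {S V : Type*} [Group S] [CommGroup V] [MulDistribMulAction S V]

variable (V) in
/-- the fixed vectors -/
def fx (g : S) : Subgroup V where
  carrier := {v | g • v = v}
  one_mem' := smul_one g
  mul_mem' := by
    intro a b ha hb
    show g • (a * b) = a * b
    rw [smul_mul', ha, hb]
  inv_mem' := by
    intro a ha
    show g • a⁻¹ = a⁻¹
    rw [smul_inv', ha]

theorem fx_pow_le (g : S) (k : ℕ) : fx V g ≤ fx V (g ^ k) := by
  intro v hv
  have h1 : g ∈ MulAction.stabilizer S v := hv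
  exact pow_mem h1 k

theorem fx_le_of_mem {g h : S} (hh : h ∈ zpowers g) : fx V g ≤ fx V h := by
  intro v hv
  have h1 : g ∈ MulAction.stabilizer S v := hv
  exact (zpowers_le.2 h1) hh

theorem fx_smul {g t : S} (h : t * g = g * t) {v : V} (hv : v ∈ fx V g) : t • v ∈ fx V g := by
  show g • (t • v) = t • v
  rw [← mul_smul, ← h, mul_smul, hv]

variable [Finite V]

/-- fixed vectors in an invariant subgroup -/
theorem card_inv_mod {p : ℕ} (hp : p.Prime) {x : S} (hx : orderOf x = p) (W : Subgroup V)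
    (hW : ∀ v ∈ W, x • v ∈ W) : Nat.card W ≡ Nat.card (W ⊓ fx V x : Subgroup V) [MOD p] :=
  Fix.card_mod hp hx (W : Set V) hW

theorem dvd_cases {n : ℕ} (h : n ∣ 256) (hm : n % 5 = 1) : n = 1 ∨ n = 16 ∨ n = 256 := by
  obtain ⟨j, hj, rfl⟩ := (Nat.dvd_prime_pow Nat.prime_two (m := 8)).1 (by simpa using h)
  interval_cases j <;> simp_all

theorem card_fx (hV : Nat.card V = 256) (hf : ∀ g : S, (∀ v : V, g • v = v) → g = 1) {x : S} (hx : orderOf x = 5) :
    Nat.card (fx V x) = 1 ∨ Nat.card (fx V x) = 16 := by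
  have h1 := card_inv_mod (by norm_num) hx (⊤ : Subgroup V) (fun v _ => Subgroup.mem_top _)
  rw [top_inf_eq, Subgroup.card_top, hV] at h1
  have h2 : Nat.card (fx V x) ∣ 256 := hV ▸ Subgroup.card_subgroup_dvd_card _
  rcases dvd_cases h2 (by unfold Nat.ModEq at h1; omega) with h | h | h
  · exact Or.inl h
  · exact Or.inr h
  · exfalso
    have h3 : fx V x = ⊤ := Subgroup.eq_top_of_card_eq _ (by rw [h, hV])
    have h4 : x = 1 := hf x fun v => by
      have : v ∈ fx V x := by rw [h3]; trivial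
      exact this
    rw [h4, orderOf_one] at hx
    omega

/-- an element commuting with `x₁`, `x₂` -/
theorem cases_inf {x₁ x₂ t : S} (h2 : orderOf x₂ = 5) (hc : x₂ * x₁ = x₁ * x₂) (h16 : Nat.card (fx V x₁) = 16)
    (hbot : fx V x₁ ⊓ fx V x₂ = ⊥) (ht2 : x₂ * t = t * x₂) :
    fx V x₁ ⊓ fx V t = ⊥ ∨ fx V x₁ ≤ fx V t := by
  have h1 := card_inv_mod (by norm_num) h2 (fx V x₁ ⊓ fx V t) (fun v hv => ⟨fx_smul hc hv.1, fx_smul ht2 hv.2⟩)
  have h3 : fx V x₁ ⊓ fx V t ⊓ fx V x₂ = ⊥ := by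
    rw [eq_bot_iff, ← hbot]
    exact fun v hv => ⟨hv.1.1, hv.2⟩
  rw [h3, Subgroup.card_bot] at h1
  have h4 : Nat.card (fx V x₁ ⊓ fx V t : Subgroup V) ∣ 16 := h16 ▸ Subgroup.card_dvd_of_le inf_le_left
  rcases dvd_cases (h4.trans (by norm_num)) (by unfold Nat.ModEq at h1; omega) with h | h | h
  · left
    exact Subgroup.card_eq_one.1 h
  · right
    have h5 : fx V x₁ ⊓ fx V t = fx V x₁ := Subgroup.eq_of_le_of_card_ge inf_le_left (by rw [h, h16])
    rw [← h5]
    exact inf_le_right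
  · rw [h] at h4
    exact absurd h4 (by norm_num)

theorem le_of_two {x₁ x₂ t : S} (h2 : orderOf x₂ = 5) (hc : x₂ * x₁ = x₁ * x₂) (h16 : Nat.card (fx V x₁) = 16)
    (hbot : fx V x₁ ⊓ fx V x₂ = ⊥) (ht1 : t * x₁ = x₁ * t) (ht2 : x₂ * t = t * x₂) (ht : orderOf t = 2) :
    fx V x₁ ≤ fx V t := by
  rcases cases_inf h2 hc h16 hbot ht2 with h | h
  · exfalso
    have h1 := card_inv_mod Nat.prime_two ht (fx V x₁) (fun v hv => fx_smul ht1 hv)
    rw [h, h16, Subgroup.card_bot] at h1
    exact absurd h1 (by decide)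
  · exact h

theorem eq_one_of_le (hV : Nat.card V = 256) (hf : ∀ g : S, (∀ v : V, g • v = v) → g = 1) {x₁ x₂ t : S}
    (h16 : Nat.card (fx V x₁) = 16) (h16' : Nat.card (fx V x₂) = 16) (hbot : fx V x₁ ⊓ fx V x₂ = ⊥)
    (h1 : fx V x₁ ≤ fx V t) (h2 : fx V x₂ ≤ fx V t) : t = 1 := by
  have h3 : (fx V x₁).IsComplement' (fx V x₂) :=
    Subgroup.isComplement'_of_card_mul_and_disjoint (by rw [h16, h16', hV]) (disjoint_iff.2 hbot)
  have h4 : fx V t = ⊤ := by
    rw [eq_top_iff, ← h3.sup_eq_top]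
    exact sup_le h1 h2
  exact hf t fun v => by
    have : v ∈ fx V t := by rw [h4]; trivial
    exact this

theorem mem_of_pow {D : Subgroup S} {z : S} {p k : ℕ} (hp : p.Prime) (hz : orderOf z = p) (hk : ¬ p ∣ k)
    (h : z ^ k ∈ D) : z ∈ D := by
  have hfo : IsOfFinOrder z := orderOf_pos_iff.1 (by rw [hz]; exact hp.pos)
  have h1 : Nat.Coprime (orderOf z) k := by rw [hz]; exact (Nat.Prime.coprime_iff_not_dvd hp).2 hk
  have h2 : (zpowers (z ^ k) : Subgroup S) = zpowers z := by
    have : Finite (zpowers z) := hfo.finite_zpowers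
    refine Subgroup.eq_of_le_of_card_ge (zpowers_le.2 (pow_mem (mem_zpowers z) k)) ?_
    rw [Nat.card_zpowers, Nat.card_zpowers, Nat.Coprime.orderOf_pow h1]
  have h3 : z ∈ zpowers (z ^ k) := by rw [h2]; exact mem_zpowers z
  exact (zpowers_le.2 h) h3

/-- the group `⟨z x₂⟩` is transitive on the non-trivial vectors fixed by `x₁` -/
theorem trans15 {x₁ x₂ z : S} (h2 : orderOf x₂ = 5) (hc : x₂ * x₁ = x₁ * x₂) (h16 : Nat.card (fx V x₁) = 16)
    (hbot : fx V x₁ ⊓ fx V x₂ = ⊥) (hz1 : z * x₁ = x₁ * z) (hz2 : z * x₂ = x₂ * z) (hz : orderOf z = 3)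
    (hbz : fx V x₁ ⊓ fx V z = ⊥) {w w' : V} (hw : w ∈ fx V x₁) (hw1 : w ≠ 1) (hw' : w' ∈ fx V x₁) (hw1' : w' ≠ 1) :
    ∃ k : ℕ, w' = (z * x₂) ^ k • w := by
  have hcom : Commute z x₂ := hz2
  have hux : (z * x₂) * x₁ = x₁ * (z * x₂) := by rw [mul_assoc, hc, ← mul_assoc, hz1, mul_assoc]
  have hinv : ∀ k : ℕ, (z * x₂) ^ k • w ∈ fx V x₁ := by
    intro k
    induction k with
    | zero => rwa [pow_zero, one_smul]
    | succ k ih => rw [pow_succ', mul_smul]; exact fx_smul hux ih
  have hne : ∀ k : ℕ, (z * x₂) ^ k • w ≠ 1 := by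
    intro k h
    apply hw1
    rw [← inv_smul_smul ((z * x₂) ^ k) w, h, smul_one]
  let f : Fin 15 → {v : fx V x₁ // v ≠ 1} := fun k => ⟨⟨(z * x₂) ^ (k : ℕ) • w, hinv k⟩, fun h => hne k (congrArg Subtype.val h)⟩
  have key : ∀ d : ℕ, 0 < d → d < 15 → (z * x₂) ^ d • w ≠ w := by
    intro d hd hd' h
    have h3 : (z * x₂) ^ d ∈ MulAction.stabilizer S w := h
    by_cases h4 : 3 ∣ d
    · have h5 : ¬ 5 ∣ d * 3 := by omega
      have h6 := pow_mem h3 3
      rw [← pow_mul, hcom.mul_pow, show z ^ (d * 3) = 1 by rw [mul_comm, pow_mul, ← hz, pow_orderOf_eq_one, one_pow],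
        one_mul] at h6
      have h7 : x₂ ∈ MulAction.stabilizer S w := mem_of_pow (by norm_num) h2 h5 h6
      have h8 : w ∈ fx V x₁ ⊓ fx V x₂ := ⟨hw, h7⟩
      rw [hbot] at h8
      exact hw1 (Subgroup.mem_bot.1 h8)
    · have h5 : ¬ 3 ∣ d * 5 := by omega
      have h6 := pow_mem h3 5
      rw [← pow_mul, hcom.mul_pow, show x₂ ^ (d * 5) = 1 by rw [mul_comm, pow_mul, ← h2, pow_orderOf_eq_one, one_pow],
        mul_one] at h6
      have h7 : z ∈ MulAction.stabilizer S w := mem_of_pow (by norm_num) hz h5 h6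
      have h8 : w ∈ fx V x₁ ⊓ fx V z := ⟨hw, h7⟩
      rw [hbz] at h8
      exact hw1 (Subgroup.mem_bot.1 h8)
  have key2 : ∀ i j : ℕ, i < j → j < 15 → (z * x₂) ^ i • w ≠ (z * x₂) ^ j • w := by
    intro i j hij hj h
    apply key (j - i) (by omega) (by omega)
    have h1 : (z * x₂) ^ j = (z * x₂) ^ i * (z * x₂) ^ (j - i) := by rw [← pow_add]; congr 1; omega
    rw [h1, mul_smul] at h
    exact (MulAction.injective _ h).symm
  have hf : Function.Injective f := by
    intro i j hij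
    have h1 : (z * x₂) ^ (i : ℕ) • w = (z * x₂) ^ (j : ℕ) • w := congrArg (fun v => ((v.1 : fx V x₁) : V)) hij
    rcases lt_trichotomy (i : ℕ) j with h | h | h
    · exact absurd h1 (key2 i j h j.2)
    · exact Fin.ext h
    · exact absurd h1.symm (key2 j i h i.2)
  have hcard : Nat.card {v : fx V x₁ // v ≠ 1} = 15 := by
    have h1 : Nat.card {v : fx V x₁ // v ≠ 1} + Nat.card {v : fx V x₁ // v = 1} = 16 := by
      rw [← h16, add_comm]
      have := Fintype.ofFinite (fx V x₁)
      classical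
      simp only [Nat.card_eq_fintype_card]
      exact Fintype.card_subtype_compl (fun v : fx V x₁ => v = 1) ▸ by
        have h2 : Fintype.card {v : fx V x₁ // v = 1} ≤ Fintype.card (fx V x₁) := Fintype.card_subtype_le _
        omega
    have h2 : Nat.card {v : fx V x₁ // v = 1} = 1 := by
      rw [Nat.card_eq_one_iff_unique]
      exact ⟨⟨fun a b => Subtype.ext (a.2.trans b.2.symm)⟩, ⟨⟨1, rfl⟩⟩⟩
    omega
  have hb := hf.bijective_of_nat_card_le (by rw [hcard, Nat.card_eq_fintype_card, Fintype.card_fin])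
  obtain ⟨k, hk⟩ := hb.2 ⟨⟨w', hw'⟩, fun h => hw1' (congrArg Subtype.val h)⟩
  exact ⟨k, (congrArg (fun v => ((v.1 : fx V x₁) : V)) hk).symm⟩

/-- a group of order `16` contains three independent vectors -/
theorem exists_three (W : Subgroup V) (h16 : Nat.card W = 16) (hsq : ∀ v : V, v * v = 1) :
    ∃ u v w : V, u ∈ W ∧ v ∈ W ∧ w ∈ W ∧ u ≠ 1 ∧ v ≠ 1 ∧ w ≠ 1 ∧ u * v ≠ 1 ∧ u * w ≠ 1 ∧ v * w ≠ 1 ∧ u * v * w ≠ 1 := by
  classical
  have hex : ∀ s : Finset V, s.card < 16 → ∃ w ∈ W, w ∉ s := by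
    intro s hs
    by_contra hcon
    push Not at hcon
    have h1 : Nat.card W ≤ Nat.card (s : Set V) := Nat.card_mono (Set.toFinite _) (fun v hv => hcon v hv)
    rw [h16] at h1
    have h2 : Nat.card (s : Set V) = s.card := by simp only [_root_.SetLike.coe_sort_coe, _root_.Nat.card_eq_fintype_card, _root_.Fintype.card_coe]
    omega
  have hne : ∀ a b : V, b ≠ a → a * b ≠ 1 := by
    intro a b hab h
    apply hab
    calc b = (a * a) * b := by rw [hsq, one_mul]
      _ = a * (a * b) := mul_assoc _ _ _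
      _ = a := by rw [h, mul_one]
  obtain ⟨u, hu, hu'⟩ := hex {1} (by simp)
  obtain ⟨v, hv, hv'⟩ := hex {1, u} (lt_of_le_of_lt (Finset.card_insert_le _ _) (by simp))
  obtain ⟨w, hw, hw'⟩ := hex {1, u, v, u * v} (by
    refine lt_of_le_of_lt (Finset.card_insert_le _ _) ?_
    have h1 := Finset.card_insert_le u {v, u * v}
    have h2 := Finset.card_insert_le v {u * v}
    rw [Finset.card_singleton] at h2
    omega)
  simp only [Finset.mem_insert, Finset.mem_singleton, not_or] at hu' hv' hw'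
  exact ⟨u, v, w, hu, hv, hw, hu', hv'.1, hw'.1, hne u v hv'.2, hne u w hw'.2.1, hne v w hw'.2.2.1,
    hne (u * v) w hw'.2.2.2⟩

end fx

end Cfsg.Agent.H884.Od8
end

-- part: H884/Od8/Elem
section
/-!
# Elementary abelian groups of order `25` acting on a quadratic space of dimension `8` over `𝔽₂`: the main lemmas
(helper884)
-/

set_option autoImplicit false

namespace Cfsg.Agent.H884.Od8

open Subgroup Cfsg.Agent.H503.El

variable {S V : Type*} [Group S] [CommGroup V] [MulDistribMulAction S V] [Finite V]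

/-- the situation -/
structure Sit (Q : V → ZMod 2) (E : Subgroup S) : Prop where
  cardV : Nat.card V = 256
  faith : ∀ g : S, (∀ v : V, g • v = v) → g = 1
  sq : ∀ v : V, v * v = 1
  inv : ∀ (g : S) (v : V), Q (g • v) = Q v
  quad : ∀ u v w : V, Q (u * v * w) + Q (u * v) + Q (u * w) + Q (v * w) + Q u + Q v + Q w = 0
  cardQ : Nat.card {v : V // Q v = 0} = 136
  cardE : Nat.card E = 25
  pow : ∀ g ∈ E, g ^ 5 = 1
  comm : ∀ g ∈ E, ∀ h ∈ E, g * h = h * g

namespace Sit

variable {Q : V → ZMod 2} {E : Subgroup S} (h : Sit Q E)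

include h

theorem finite : Finite E := Nat.finite_of_card_ne_zero (by rw [h.cardE]; norm_num)

theorem order {g : S} (hg : g ∈ E) (hg1 : g ≠ 1) : orderOf g = 5 := by
  have : Fact (Nat.Prime 5) := ⟨by norm_num⟩
  exact orderOf_eq_prime (h.pow g hg) hg1

theorem card_cases {g : S} (hg : g ∈ E) (hg1 : g ≠ 1) : Nat.card (fx V g) = 1 ∨ Nat.card (fx V g) = 16 :=
  card_fx h.cardV h.faith (h.order hg hg1)

theorem card_one : Nat.card (fx V (1 : S)) = 256 := by
  have h1 : fx V (1 : S) = ⊤ := by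
    rw [eq_top_iff]
    intro v _
    exact one_smul S v
  rw [h1, Subgroup.card_top, h.cardV]

theorem fx_eq_of_pow {g : S} (hg : g ∈ E) {k : ℕ} (hk : ¬ 5 ∣ k) : fx V (g ^ k) = fx V g := by
  apply le_antisymm
  · intro v hv
    have h1 : g ^ k ∈ MulAction.stabilizer S v := hv
    by_cases hg1 : g = 1
    · subst hg1
      exact one_smul S v
    · have h2 : g ∈ MulAction.stabilizer S v := mem_of_pow (by norm_num) (h.order hg hg1) hk h1
      exact h2
  · exact fx_pow_le g k

theorem fx_eq_of_mem {g x : S} (hx : x ∈ E) (hg : g ∈ zpowers x) (hg1 : g ≠ 1) : fx V g = fx V x := by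
  have h5 : Fact (Nat.Prime 5) := ⟨by norm_num⟩
  have hgE : g ∈ E := (zpowers_le.2 hx) hg
  have hx1 : x ≠ 1 := by
    intro h1
    rw [h1, zpowers_one_eq_bot] at hg
    exact hg1 (Subgroup.mem_bot.1 hg)
  have hfo : Finite (zpowers x) := by
    apply Nat.finite_of_card_ne_zero
    rw [Nat.card_zpowers, h.order hx hx1]
    norm_num
  have h1 : zpowers g = zpowers x := by
    refine Subgroup.eq_of_le_of_card_ge (zpowers_le.2 hg) ?_
    rw [Nat.card_zpowers, Nat.card_zpowers, h.order hx hx1, h.order hgE hg1]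
  apply le_antisymm
  · exact fx_le_of_mem (by rw [h1]; exact mem_zpowers x)
  · exact fx_le_of_mem hg

open Classical in
/-- the special elements -/
theorem card_special [Fintype E] :
    (Finset.univ.filter fun g : E => g ≠ 1 ∧ Nat.card (fx V (g : S)) = 16).card = 8 := by
  set s := Finset.univ.filter fun g : E => g ≠ 1 ∧ Nat.card (fx V (g : S)) = 16 with hs
  have h4 : 4 ∣ s.card := by
    refine four_dvd (fun g => Subtype.ext (h.pow g.1 g.2)) s (by simp only [hs, _root_.ne_eq, _root_.Finset.mem_filter, _root_.Finset.mem_univ, _root_.not_true_eq_false, _root_.OneMemClass.coe_one, _root_.false_and, _root_.and_false, _root_.not_false_eq_true]) ?_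
    intro g hg k hk
    rw [hs, Finset.mem_filter] at hg ⊢
    refine ⟨Finset.mem_univ _, ?_, ?_⟩
    · intro h1
      apply hg.2.1
      have h2 : g ∈ (⊥ : Subgroup E) := mem_of_pow (p := 5) (by norm_num) (by
        rw [← Subgroup.orderOf_coe]
        exact h.order g.2 fun h3 => hg.2.1 (Subtype.ext h3)) hk (by rw [h1]; exact one_mem _)
      exact Subgroup.mem_bot.1 h2
    · show Nat.card (fx V ((g : S) ^ k)) = 16
      rw [h.fx_eq_of_pow g.2 hk]
      exact hg.2.2
  have hle : s.card ≤ 24 := by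
    have h1 : s ⊆ Finset.univ.erase 1 := by
      intro g hg
      rw [hs, Finset.mem_filter] at hg
      exact Finset.mem_erase.2 ⟨hg.2.1, Finset.mem_univ _⟩
    have h2 := Finset.card_le_card h1
    rw [Finset.card_erase_of_mem (Finset.mem_univ _), Finset.card_univ, ← Nat.card_eq_fintype_card, h.cardE] at h2
    exact h2
  have h1 := burnside (E := E) (V := V) (fun _ => True) (fun _ _ _ => trivial)
  have h2 : ∀ g : E, Nat.card {v : V // True ∧ g • v = v} =
      1 + (if g = 1 then 255 else 0) + (if g ∈ s then 15 else 0) := by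
    intro g
    have h3 : Nat.card {v : V // True ∧ g • v = v} = Nat.card (fx V (g : S)) :=
      Nat.card_congr (Equiv.subtypeEquivRight fun v => ⟨fun h => h.2, fun h => ⟨trivial, h⟩⟩)
    rw [h3]
    by_cases hg1 : g = 1
    · have h5 : g ∉ s := by rw [hs, Finset.mem_filter]; exact fun h6 => h6.2.1 hg1
      rw [if_neg h5, if_pos hg1, hg1, OneMemClass.coe_one, h.card_one]
    · rcases h.card_cases g.2 (fun h4 => hg1 (Subtype.ext h4)) with h4 | h4
      · have h5 : g ∉ s := by
          rw [hs, Finset.mem_filter]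
          intro h6
          rw [h4] at h6
          exact absurd h6.2.2 (by norm_num)
        rw [if_neg h5, if_neg hg1, h4]
      · have h5 : g ∈ s := by rw [hs, Finset.mem_filter]; exact ⟨Finset.mem_univ _, hg1, h4⟩
        rw [if_pos h5, if_neg hg1, h4]
  rw [Finset.sum_congr rfl (fun g _ => h2 g), Finset.sum_add_distrib, Finset.sum_add_distrib, Finset.sum_ite_eq',
    Finset.sum_const, ← Finset.sum_filter, Finset.sum_const, Finset.filter_mem_eq_inter, Finset.univ_inter,
    Finset.card_univ, ← Nat.card_eq_fintype_card, h.cardE, if_pos (Finset.mem_univ _)] at h1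
  simp only [smul_eq_mul] at h1
  omega

open Classical in
/-- the non-trivial powers of an element -/
theorem card_zp [Fintype E] {x : S} (hx : x ∈ E) (hx1 : x ≠ 1) :
    (Finset.univ.filter fun g : E => g ≠ 1 ∧ (g : S) ∈ zpowers x).card = 4 := by
  have h1 : (Finset.univ.filter fun g : E => g ≠ 1 ∧ (g : S) ∈ zpowers x) =
      (Finset.univ.filter fun g : E => (g : S) ∈ zpowers x).erase 1 := by
    ext g
    simp only [_root_.ne_eq, _root_.Finset.mem_filter, _root_.Finset.mem_univ, _root_.true_and, _root_.Finset.mem_erase]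
  have h2 : (Finset.univ.filter fun g : E => (g : S) ∈ zpowers x).card = 5 := by
    rw [← h.order hx hx1, ← Nat.card_zpowers, ← Fintype.card_subtype, ← Nat.card_eq_fintype_card]
    exact Nat.card_congr ⟨fun g => ⟨g.1, g.2⟩, fun g => ⟨⟨g.1, (zpowers_le.2 hx) g.2⟩, g.2⟩, fun _ => rfl, fun _ => rfl⟩
  rw [h1, Finset.card_erase_of_mem (by simp only [one_mem, _root_.Finset.mem_filter, _root_.Finset.mem_univ, _root_.OneMemClass.coe_one, _root_.and_self]), h2]

/-- the two special subgroups -/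
theorem exists_pair : ∃ x₁ ∈ E, ∃ x₂ ∈ E, x₁ ≠ 1 ∧ x₂ ≠ 1 ∧ x₂ ∉ zpowers x₁ ∧ Nat.card (fx V x₁) = 16 ∧
    Nat.card (fx V x₂) = 16 ∧ fx V x₁ ⊓ fx V x₂ = ⊥ ∧
    ∀ g ∈ E, g ≠ 1 → Nat.card (fx V g) = 16 → g ∈ zpowers x₁ ∨ g ∈ zpowers x₂ := by
  classical
  have hfin := h.finite
  have hft : Fintype E := Fintype.ofFinite E
  have h8 := h.card_special
  set s := Finset.univ.filter fun g : E => g ≠ 1 ∧ Nat.card (fx V (g : S)) = 16 with hs
  obtain ⟨x₁, hx₁⟩ : ∃ x₁, x₁ ∈ s := by
    rw [← Finset.Nonempty, ← Finset.card_pos, h8]; norm_num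
  rw [hs, Finset.mem_filter] at hx₁
  have hx₁1 : (x₁ : S) ≠ 1 := fun h1 => hx₁.2.1 (Subtype.ext h1)
  have hc1 := h.card_zp x₁.2 hx₁1
  set s₁ := Finset.univ.filter fun g : E => g ≠ 1 ∧ (g : S) ∈ zpowers (x₁ : S) with hs₁
  obtain ⟨x₂, hx₂, hx₂'⟩ : ∃ x₂ ∈ s, x₂ ∉ s₁ := Finset.exists_mem_notMem_of_card_lt_card (by rw [h8, hc1]; norm_num)
  rw [hs, Finset.mem_filter] at hx₂
  have hx₂1 : (x₂ : S) ≠ 1 := fun h1 => hx₂.2.1 (Subtype.ext h1)
  have hx₂z : (x₂ : S) ∉ zpowers (x₁ : S) := by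
    intro h1
    apply hx₂'
    rw [hs₁, Finset.mem_filter]
    exact ⟨Finset.mem_univ _, hx₂.2.1, h1⟩
  have hc2 := h.card_zp x₂.2 hx₂1
  set s₂ := Finset.univ.filter fun g : E => g ≠ 1 ∧ (g : S) ∈ zpowers (x₂ : S) with hs₂
  have hdisj : Disjoint s₁ s₂ := by
    rw [Finset.disjoint_left]
    intro g hg hg'
    rw [hs₁, Finset.mem_filter] at hg
    rw [hs₂, Finset.mem_filter] at hg'
    apply hx₂z
    have hg1 : (g : S) ≠ 1 := fun h1 => hg.2.1 (Subtype.ext h1)
    have h1 : ∀ x : E, (x : S) ≠ 1 → (g : S) ∈ zpowers (x : S) → zpowers (g : S) = zpowers (x : S) := by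
      intro x hx1 hx
      have hfz : Finite (zpowers (x : S)) := by
        apply Nat.finite_of_card_ne_zero
        rw [Nat.card_zpowers, h.order x.2 hx1]
        norm_num
      refine Subgroup.eq_of_le_of_card_ge (zpowers_le.2 hx) ?_
      rw [Nat.card_zpowers, Nat.card_zpowers, h.order x.2 hx1, h.order g.2 hg1]
    rw [← h1 x₁ hx₁1 hg.2.2, h1 x₂ hx₂1 hg'.2.2]
    exact mem_zpowers _
  have hsub : s₁ ∪ s₂ ⊆ s := by
    intro g hg
    rw [Finset.mem_union] at hg
    rw [hs, Finset.mem_filter]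
    rcases hg with hg | hg
    · rw [hs₁, Finset.mem_filter] at hg
      refine ⟨Finset.mem_univ _, hg.2.1, ?_⟩
      rw [h.fx_eq_of_mem x₁.2 hg.2.2 fun h1 => hg.2.1 (Subtype.ext h1)]
      exact hx₁.2.2
    · rw [hs₂, Finset.mem_filter] at hg
      refine ⟨Finset.mem_univ _, hg.2.1, ?_⟩
      rw [h.fx_eq_of_mem x₂.2 hg.2.2 fun h1 => hg.2.1 (Subtype.ext h1)]
      exact hx₂.2.2
  have heq : s₁ ∪ s₂ = s := Finset.eq_of_subset_of_card_le hsub (by
    rw [Finset.card_union_of_disjoint hdisj, hc1, hc2, h8])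
  have hall : ∀ g ∈ E, g ≠ 1 → Nat.card (fx V g) = 16 → g ∈ zpowers (x₁ : S) ∨ g ∈ zpowers (x₂ : S) := by
    intro g hg hg1 hg16
    have h1 : (⟨g, hg⟩ : E) ∈ s₁ ∪ s₂ := by
      rw [heq, hs, Finset.mem_filter]
      exact ⟨Finset.mem_univ _, fun h2 => hg1 (congrArg Subtype.val h2), hg16⟩
    rw [Finset.mem_union, hs₁, hs₂, Finset.mem_filter, Finset.mem_filter] at h1
    rcases h1 with h1 | h1
    · exact Or.inl h1.2.2
    · exact Or.inr h1.2.2
  refine ⟨x₁, x₁.2, x₂, x₂.2, hx₁1, hx₂1, hx₂z, hx₁.2.2, hx₂.2.2, ?_, hall⟩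
  -- the intersection
  have hcm : (x₂ : S) * x₁ = x₁ * x₂ := h.comm _ x₂.2 _ x₁.2
  have h1 := card_inv_mod (by norm_num) (h.order x₂.2 hx₂1) (fx V (x₁ : S)) (fun v hv => fx_smul hcm hv)
  rw [hx₁.2.2] at h1
  have h4 : Nat.card (fx V (x₁ : S) ⊓ fx V (x₂ : S) : Subgroup V) ∣ 16 :=
    hx₁.2.2 ▸ Subgroup.card_dvd_of_le inf_le_left
  rcases dvd_cases (h4.trans (by norm_num)) (by unfold Nat.ModEq at h1; omega) with h5 | h5 | h5
  · exact Subgroup.card_eq_one.1 h5
  · exfalso
    have h6 : fx V (x₁ : S) ⊓ fx V (x₂ : S) = fx V (x₁ : S) :=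
      Subgroup.eq_of_le_of_card_ge inf_le_left (by rw [h5, hx₁.2.2])
    have h7 : fx V (x₁ : S) = fx V (x₂ : S) :=
      Subgroup.eq_of_le_of_card_ge (by rw [← h6]; exact inf_le_right) (by rw [hx₁.2.2, hx₂.2.2])
    -- `x₁ x₂` is special
    have h9 : fx V (x₁ : S) ≤ fx V ((x₁ : S) * x₂) := by
      intro v hv
      have hv2 : v ∈ fx V (x₂ : S) := h7 ▸ hv
      show ((x₁ : S) * x₂) • v = v
      rw [mul_smul, hv2, hv]
    have h10 : (x₁ : S) * x₂ ∈ E := mul_mem x₁.2 x₂.2
    have h11 : (x₁ : S) * x₂ ≠ 1 := by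
      intro h12
      apply hx₂z
      rw [eq_inv_of_mul_eq_one_right h12]
      exact inv_mem (mem_zpowers _)
    have h12 : Nat.card (fx V ((x₁ : S) * x₂)) = 16 := by
      rcases h.card_cases h10 h11 with h13 | h13
      · have h14 := Subgroup.card_dvd_of_le h9
        rw [h13, hx₁.2.2] at h14
        exact absurd h14 (by norm_num)
      · exact h13
    rcases hall _ h10 h11 h12 with h13 | h13
    · apply hx₂z
      have h14 := mul_mem (inv_mem (mem_zpowers (x₁ : S))) h13
      rwa [inv_mul_cancel_left] at h14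
    · apply hx₂z
      have h14 : (x₁ : S) ∈ zpowers (x₂ : S) := by
        have h15 := mul_mem h13 (inv_mem (mem_zpowers (x₂ : S)))
        rwa [mul_inv_cancel_right] at h15
      have hfz : Finite (zpowers (x₂ : S)) := by
        apply Nat.finite_of_card_ne_zero
        rw [Nat.card_zpowers, h.order x₂.2 hx₂1]
        norm_num
      have h15 : zpowers (x₁ : S) = zpowers (x₂ : S) :=
        Subgroup.eq_of_le_of_card_ge (zpowers_le.2 h14) (by
          rw [Nat.card_zpowers, Nat.card_zpowers, h.order x₂.2 hx₂1, h.order x₁.2 hx₁1])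
      rw [h15]
      exact mem_zpowers _
  · rw [h5] at h4
    exact absurd h4 (by norm_num)

/-- **no involution centralises `E`** -/
theorem no_two {t : S} (ht : orderOf t = 2) (hct : ∀ g ∈ E, t * g = g * t) : False := by
  obtain ⟨x₁, hx₁, x₂, hx₂, hx₁1, hx₂1, -, hc₁, hc₂, hbot, -⟩ := h.exists_pair
  have hc := h.comm _ hx₂ _ hx₁
  have h1 := le_of_two (h.order hx₂ hx₂1) hc hc₁ hbot (hct _ hx₁) (hct _ hx₂).symm ht
  have h2 := le_of_two (h.order hx₁ hx₁1) hc.symm hc₂ (by rw [inf_comm, hbot]) (hct _ hx₂) (hct _ hx₁).symm ht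
  have h3 := eq_one_of_le h.cardV h.faith hc₁ hc₂ hbot h1 h2
  rw [h3, orderOf_one] at ht
  omega

/-- a fixed point free element of order `3` on `fx x₁` -/
theorem core {x₁ x₂ z : S} (hx₁ : x₁ ∈ E) (hx₂ : x₂ ∈ E) (hx₁1 : x₁ ≠ 1) (hx₂1 : x₂ ≠ 1) (hnz : x₂ ∉ zpowers x₁)
    (hc₁ : Nat.card (fx V x₁) = 16) (hc₂ : Nat.card (fx V x₂) = 16) (hbot : fx V x₁ ⊓ fx V x₂ = ⊥)
    (hall : ∀ g ∈ E, g ≠ 1 → Nat.card (fx V g) = 16 → g ∈ zpowers x₁ ∨ g ∈ zpowers x₂)
    (hz : orderOf z = 3) (hz1 : z * x₁ = x₁ * z) (hz2 : z * x₂ = x₂ * z) (hbz : fx V x₁ ⊓ fx V z = ⊥) : False := by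
  classical
  have hfin := h.finite
  have hft : Fintype E := Fintype.ofFinite E
  have hc := h.comm _ hx₂ _ hx₁
  have hconst : ∀ w ∈ fx V x₁, ∀ w' ∈ fx V x₁, w ≠ 1 → w' ≠ 1 → Q w' = Q w := by
    intro w hw w' hw' hw1 hw1'
    obtain ⟨k, rfl⟩ := trans15 (h.order hx₂ hx₂1) hc hc₁ hbot hz1 hz2 hz hbz hw hw1 hw' hw1'
    exact h.inv _ _
  have hQ1 : Q 1 = 0 := by
    have h1 := h.quad 1 1 1
    simp only [one_mul] at h1
    generalize Q 1 = c at h1
    revert h1
    revert c
    decide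
  obtain ⟨u, v, w, hu, hv, hw, hu1, hv1, hw1, huv, huw, hvw, huvw⟩ := exists_three (fx V x₁) hc₁ h.sq
  have h0 : Q u = 0 := by
    have h1 := h.quad u v w
    rw [hconst u hu _ (mul_mem (mul_mem hu hv) hw) hu1 huvw, hconst u hu _ (mul_mem hu hv) hu1 huv,
      hconst u hu _ (mul_mem hu hw) hu1 huw, hconst u hu _ (mul_mem hv hw) hu1 hvw, hconst u hu _ hv hu1 hv1,
      hconst u hu _ hw hu1 hw1] at h1
    generalize Q u = c at h1
    revert h1
    revert c
    decide
  have hsing : ∀ w ∈ fx V x₁, Q w = 0 := by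
    intro w hw
    by_cases hw1 : w = 1
    · rw [hw1, hQ1]
    · rw [hconst u hu w hw hu1 hw1, h0]
  -- counting
  have hd := burnside (E := E) (V := V) (fun v => Q v = 0) (fun g v hv => by
    show Q ((g : S) • v) = 0
    rw [h.inv, hv])
  set s₁ := Finset.univ.filter fun g : E => g ≠ 1 ∧ (g : S) ∈ zpowers x₁ with hs₁
  set s₂ := Finset.univ.filter fun g : E => g ≠ 1 ∧ (g : S) ∈ zpowers x₂ with hs₂
  have hcs₁ : s₁.card = 4 := h.card_zp hx₁ hx₁1
  have hcs₂ : s₂.card = 4 := h.card_zp hx₂ hx₂1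
  set a := Nat.card {v : V // Q v = 0 ∧ x₂ • v = v} with ha
  have ha1 : 1 ≤ a := by
    rw [ha, Nat.one_le_iff_ne_zero, ← pos_iff_ne_zero, Nat.card_pos_iff]
    exact ⟨⟨⟨1, hQ1, smul_one _⟩⟩, inferInstance⟩
  have ha16 : a ≤ 16 := by
    rw [ha, ← hc₂]
    exact Nat.card_le_card_of_injective (fun v => (⟨v.1, v.2.2⟩ : fx V x₂)) (fun v w hvw => Subtype.ext
      (congrArg (fun u : fx V x₂ => (u : V)) hvw))
  have hdj : ∀ g : E, g ∈ s₁ → g ∉ s₂ := by
    intro g hg hg'
    rw [hs₁, Finset.mem_filter] at hg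
    rw [hs₂, Finset.mem_filter] at hg'
    have hg1 : (g : S) ≠ 1 := fun h1 => hg.2.1 (Subtype.ext h1)
    have h1 := h.fx_eq_of_mem hx₁ hg.2.2 hg1
    have h2 := h.fx_eq_of_mem hx₂ hg'.2.2 hg1
    rw [← h1, ← h2, inf_idem] at hbot
    rw [← h1, hbot, Subgroup.card_bot] at hc₁
    exact absurd hc₁ (by norm_num)
  have key : ∀ g : E, Nat.card {v : V // Q v = 0 ∧ g • v = v} =
      1 + (if g = 1 then 135 else 0) + (if g ∈ s₁ then 15 else 0) + (if g ∈ s₂ then a - 1 else 0) := by
    intro g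
    by_cases hg : g = 1
    · have h5 : g ∉ s₁ := by rw [hs₁, Finset.mem_filter]; exact fun h6 => h6.2.1 hg
      have h6 : g ∉ s₂ := by rw [hs₂, Finset.mem_filter]; exact fun h6 => h6.2.1 hg
      rw [if_pos hg, if_neg h5, if_neg h6, hg]
      have h7 : Nat.card {v : V // Q v = 0 ∧ (1 : E) • v = v} = Nat.card {v : V // Q v = 0} :=
        Nat.card_congr (Equiv.subtypeEquivRight fun v => ⟨fun h => h.1, fun h => ⟨h, one_smul _ _⟩⟩)
      rw [h7, h.cardQ]
    · have hg1 : (g : S) ≠ 1 := fun h1 => hg (Subtype.ext h1)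
      rw [if_neg hg]
      by_cases h1 : g ∈ s₁
      · rw [if_pos h1, if_neg (hdj g h1)]
        rw [hs₁, Finset.mem_filter] at h1
        have h2 := h.fx_eq_of_mem hx₁ h1.2.2 hg1
        have h7 : Nat.card {v : V // Q v = 0 ∧ g • v = v} = Nat.card (fx V x₁) :=
          Nat.card_congr (Equiv.subtypeEquivRight fun v => ⟨fun h => by rw [← h2]; exact h.2, fun h' =>
            ⟨hsing _ h', by rw [← h2] at h'; exact h'⟩⟩)
        rw [h7, hc₁]
      · rw [if_neg h1]
        by_cases h2 : g ∈ s₂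
        · rw [if_pos h2]
          rw [hs₂, Finset.mem_filter] at h2
          have h3 := h.fx_eq_of_mem hx₂ h2.2.2 hg1
          have h7 : Nat.card {v : V // Q v = 0 ∧ g • v = v} = a :=
            Nat.card_congr (Equiv.subtypeEquivRight fun v => by
              have h8 : g • v = v ↔ x₂ • v = v := SetLike.ext_iff.1 h3 v
              rw [h8])
          rw [h7]
          omega
        · rw [if_neg h2]
          have h3 : Nat.card (fx V (g : S)) = 1 := by
            rcases h.card_cases g.2 hg1 with h4 | h4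
            · exact h4
            · exfalso
              rcases hall g g.2 hg1 h4 with h5 | h5
              · exact h1 (by rw [hs₁, Finset.mem_filter]; exact ⟨Finset.mem_univ _, hg, h5⟩)
              · exact h2 (by rw [hs₂, Finset.mem_filter]; exact ⟨Finset.mem_univ _, hg, h5⟩)
          have h4 := Subgroup.card_eq_one.1 h3
          rw [Nat.card_eq_one_iff_unique]
          refine ⟨⟨fun v w => ?_⟩, ⟨⟨1, hQ1, smul_one _⟩⟩⟩
          have h5 : ∀ v : {v : V // Q v = 0 ∧ g • v = v}, (v : V) = 1 := by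
            intro v
            have h6 : (v : V) ∈ fx V (g : S) := v.2.2
            rw [h4] at h6
            exact Subgroup.mem_bot.1 h6
          exact Subtype.ext ((h5 v).trans (h5 w).symm)
  rw [Finset.sum_congr rfl (fun g _ => key g), Finset.sum_add_distrib, Finset.sum_add_distrib, Finset.sum_add_distrib,
    Finset.sum_ite_eq', Finset.sum_const, ← Finset.sum_filter, ← Finset.sum_filter, Finset.sum_const, Finset.sum_const,
    Finset.filter_mem_eq_inter, Finset.univ_inter, Finset.filter_mem_eq_inter, Finset.univ_inter, hcs₁, hcs₂,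
    Finset.card_univ, ← Nat.card_eq_fintype_card, h.cardE, if_pos (Finset.mem_univ _)] at hd
  simp only [smul_eq_mul] at hd
  omega

/-- **no element of order `3` centralises `E`** -/
theorem no_three {z : S} (hz : orderOf z = 3) (hcz : ∀ g ∈ E, z * g = g * z) : False := by
  obtain ⟨x₁, hx₁, x₂, hx₂, hx₁1, hx₂1, hnz, hc₁, hc₂, hbot, hall⟩ := h.exists_pair
  have hc := h.comm _ hx₂ _ hx₁
  rcases cases_inf (h.order hx₂ hx₂1) hc hc₁ hbot (hcz _ hx₂).symm with h1 | h1
  · exact h.core hx₁ hx₂ hx₁1 hx₂1 hnz hc₁ hc₂ hbot hall hz (hcz _ hx₁) (hcz _ hx₂) h1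
  · rcases cases_inf (h.order hx₁ hx₁1) hc.symm hc₂ (by rw [inf_comm, hbot]) (hcz _ hx₁).symm with h2 | h2
    · refine h.core hx₂ hx₁ hx₂1 hx₁1 ?_ hc₂ hc₁ (by rw [inf_comm, hbot]) (fun g hg hg1 h3 => (hall g hg hg1 h3).symm) hz
        (hcz _ hx₂) (hcz _ hx₁) h2
      intro h3
      have h4 := h.fx_eq_of_mem hx₂ h3 hx₁1
      rw [h4, inf_idem] at hbot
      rw [hbot, Subgroup.card_bot] at hc₂
      exact absurd hc₂ (by norm_num)
    · have h3 := eq_one_of_le h.cardV h.faith hc₁ hc₂ hbot h1 h2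
      rw [h3, orderOf_one] at hz
      omega

theorem card_special' : Nat.card {g : S // g ∈ E ∧ g ≠ 1 ∧ Nat.card (fx V g) = 16} = 8 := by
  classical
  have hfin := h.finite
  have hft : Fintype E := Fintype.ofFinite E
  rw [← h.card_special, ← Fintype.card_subtype, ← Nat.card_eq_fintype_card]
  exact Nat.card_congr ⟨fun g => ⟨⟨g.1, g.2.1⟩, fun h1 => g.2.2.1 (congrArg Subtype.val h1), g.2.2.2⟩,
    fun g => ⟨g.1, g.1.2, fun h1 => g.2.1 (Subtype.ext h1), g.2.2⟩, fun _ => rfl, fun _ => rfl⟩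

/-- **no element of order `3` normalises `E`** -/
theorem no_three_norm [Finite S] {z : S} (hz : orderOf z = 3) (hnz : ∀ g ∈ E, z * g * z⁻¹ ∈ E) : False := by
  classical
  refine h.no_three hz ?_
  -- the fixed points of `z` on the special elements
  have hconj : ∀ g : S, Nat.card (fx V (z * g * z⁻¹)) = Nat.card (fx V g) := by
    intro g
    refine Nat.card_congr ⟨fun v => ⟨z⁻¹ • v.1, ?_⟩, fun v => ⟨z • v.1, ?_⟩, fun v => ?_, fun v => ?_⟩
    · have h1 : (z * g * z⁻¹) • v.1 = v.1 := v.2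
      show g • (z⁻¹ • v.1) = z⁻¹ • v.1
      rw [← mul_smul, eq_inv_smul_iff, ← mul_smul, ← mul_assoc]
      exact h1
    · have h1 : g • v.1 = v.1 := v.2
      show (z * g * z⁻¹) • (z • v.1) = z • v.1
      rw [mul_smul, inv_smul_smul, mul_smul, h1]
    · exact Subtype.ext (smul_inv_smul _ _)
    · exact Subtype.ext (inv_smul_smul _ _)
  have h1 := Fix.card_mod (S := ConjAct S) (α := S) (p := 3) (by norm_num) (x := ConjAct.toConjAct z)
    (by rw [← hz]; exact orderOf_injective (ConjAct.toConjAct (G := S)).toMonoidHom (ConjAct.toConjAct).injective z)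
    {g : S | g ∈ E ∧ g ≠ 1 ∧ Nat.card (fx V g) = 16} (by
      rintro g ⟨hg, hg1, hg16⟩
      refine ⟨hnz g hg, fun h2 => hg1 ?_, ?_⟩
      · have h3 : z * g * z⁻¹ = 1 := h2
        rwa [mul_inv_eq_one, mul_eq_left] at h3
      · exact (hconj g).trans hg16)
  have h8 : Nat.card {g : S | g ∈ E ∧ g ≠ 1 ∧ Nat.card (fx V g) = 16} = 8 := h.card_special'
  rw [h8] at h1
  -- the centralizer
  have hsub : ∀ g : S, ConjAct.toConjAct z • g = g ↔ z * g = g * z := by
    intro g
    rw [ConjAct.toConjAct_smul, mul_inv_eq_iff_eq_mul]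
  set C : Subgroup S := E ⊓ centralizer {z} with hC
  have hCm : ∀ g, g ∈ C ↔ g ∈ E ∧ z * g = g * z := by
    intro g
    rw [hC, Subgroup.mem_inf, mem_centralizer_singleton_iff]
    exact ⟨fun h => ⟨h.1, h.2.symm⟩, fun h => ⟨h.1, h.2.symm⟩⟩
  have hCd : Nat.card C ∣ 5 ^ 2 := by
    have h2 : Nat.card C ∣ Nat.card E := Subgroup.card_dvd_of_le inf_le_left
    rw [h.cardE] at h2
    simpa only [_root_.Nat.reducePow] using h2
  obtain ⟨j, hj, hCj⟩ := (Nat.dvd_prime_pow (by norm_num : Nat.Prime 5)).1 hCd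
  set A := {g : S // g ∈ {g : S | g ∈ E ∧ g ≠ 1 ∧ Nat.card (fx V g) = 16} ∧ ConjAct.toConjAct z • g = g} with hA
  have hAC : Nat.card A + 1 ≤ Nat.card C := by
    have h2 : Nat.card (Option A) = Nat.card A + 1 := Finite.card_option
    rw [← h2]
    refine Nat.card_le_card_of_injective (fun o => match o with
      | none => (1 : C)
      | some g => ⟨g.1, (hCm _).2 ⟨g.2.1.1, (hsub _).1 g.2.2⟩⟩) ?_
    intro o o' ho
    match o, o' with
    | none, none => rfl
    | none, some g => exact absurd (congrArg (fun u : C => (u : S)) ho).symm g.2.1.2.1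
    | some g, none => exact absurd (congrArg (fun u : C => (u : S)) ho) g.2.1.2.1
    | some g, some g' => exact congrArg some (Subtype.ext (congrArg (fun u : C => (u : S)) ho))
  have hA2 : Nat.card A ≠ 0 := by
    intro h2
    rw [h2] at h1
    exact absurd h1 (by decide)
  have hne : Nonempty A := by
    by_contra hcon
    rw [not_nonempty_iff] at hcon
    exact hA2 Nat.card_of_isEmpty
  obtain ⟨g, ⟨hgE, hg1, hg16⟩, hgz⟩ := hne
  have hgz' := (hsub g).1 hgz
  -- four elements
  have h4 : 4 ≤ Nat.card A := by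
    have hgo := h.order hgE hg1
    have h5 : Nat.card (Fin 4) = 4 := by simp
    rw [← h5]
    refine Nat.card_le_card_of_injective (fun k : Fin 4 => (⟨g ^ (k.1 + 1), ⟨pow_mem hgE _, ?_, ?_⟩, ?_⟩ : A)) ?_
    · intro h6
      have h7 := orderOf_dvd_of_pow_eq_one h6
      rw [hgo] at h7
      have := Nat.le_of_dvd (by omega) h7
      omega
    · rw [h.fx_eq_of_pow hgE, hg16]
      intro h7
      have := Nat.le_of_dvd (by omega) h7
      omega
    · rw [hsub]
      exact (Commute.pow_right (show Commute z g from hgz') _)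
    · intro i k hik
      have h6 : g ^ (i.1 + 1) = g ^ (k.1 + 1) := congrArg (fun u : A => (u.1 : S)) hik
      have h7 := pow_injOn_Iio_orderOf (x := g) (by rw [Set.mem_Iio, hgo]; omega) (by rw [Set.mem_Iio, hgo]; omega) h6
      exact Fin.ext (by omega)
  have hj2 : j = 2 := by
    have h5 : j = 0 ∨ j = 1 ∨ j = 2 := by omega
    rcases h5 with h5 | h5 | h5
    · rw [hCj, h5] at hAC; omega
    · rw [hCj, h5] at hAC
      have h6 : Nat.card A = 4 := by omega
      rw [h6] at h1
      exact absurd h1 (by decide)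
    · exact h5
  rw [hj2] at hCj
  have hfin := h.finite
  have hCE : C = E := Subgroup.eq_of_le_of_card_ge inf_le_left (by rw [hCj, h.cardE]; norm_num)
  intro g hg
  rw [← hCE] at hg
  exact ((hCm g).1 hg).2

end Sit

end Cfsg.Agent.H884.Od8
end

-- part: H884/Od8/JTwo
section
/-!
# `J₂`: an element of order `3` normalising a Sylow `5`-subgroup (helper884)
-/

set_option autoImplicit false

namespace Cfsg.Agent.H884.Od8

open Subgroup

/-- the elements of order dividing `5` in a cyclic group -/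
theorem eq_of_cyclic {G : Type*} [Group G] [Finite G] (P : Subgroup G) [IsCyclic P] {X Y : Subgroup G} (hX : X ≤ P)
    (hY : Y ≤ P) (hXc : Nat.card X = 5) (hYc : Nat.card Y = 5) : X = Y := by
  classical
  have hft := Fintype.ofFinite P
  have h1 := IsCyclic.card_pow_eq_one_le (α := P) (n := 5) (by norm_num)
  set s := Finset.univ.filter fun a : P => a ^ 5 = 1 with hs
  have h2 : ∀ (Z : Subgroup G), Z ≤ P → Nat.card Z = 5 → ∀ a : P, a ∈ s ↔ (a : G) ∈ Z := by
    intro Z hZ hZc
    have h3 : (Finset.univ.filter fun a : P => (a : G) ∈ Z) ⊆ s := by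
      intro a ha
      rw [Finset.mem_filter] at ha
      rw [hs, Finset.mem_filter]
      refine ⟨Finset.mem_univ _, Subtype.ext ?_⟩
      have h5 : (⟨(a : G), ha.2⟩ : Z) ^ Nat.card Z = 1 := pow_card_eq_one'
      rw [hZc] at h5
      exact congrArg (fun u : Z => (u : G)) h5
    have h4 : (Finset.univ.filter fun a : P => (a : G) ∈ Z).card = 5 := by
      rw [← hZc, ← Fintype.card_subtype, ← Nat.card_eq_fintype_card]
      exact Nat.card_congr ⟨fun g => ⟨g.1, g.2⟩, fun g => ⟨⟨g.1, hZ g.2⟩, g.2⟩, fun _ => rfl, fun _ => rfl⟩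
    have h5 := Finset.eq_of_subset_of_card_le h3 (by rw [h4]; exact h1)
    intro a
    rw [← h5, Finset.mem_filter]
    simp only [_root_.Finset.mem_univ, _root_.true_and]
  ext g
  constructor
  · intro hg
    exact (h2 Y hY hYc ⟨g, hX hg⟩).1 ((h2 X hX hXc _).2 hg)
  · intro hg
    exact (h2 X hX hXc ⟨g, hY hg⟩).1 ((h2 Y hY hYc _).2 hg)

/-- **`J₂`** -/
theorem j2_five {X : Type} [Group X] [Finite X] (h : Cfsg.Spor.IsoJ2 X) :
    ∃ (P : Subgroup X) (z : X), Nat.card P = 25 ∧ (∀ g ∈ P, g ^ 5 = 1) ∧ (∀ g ∈ P, ∀ h ∈ P, g * h = h * g) ∧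
      orderOf z = 3 ∧ ∀ g ∈ P, z * g * z⁻¹ ∈ P := by
  have h5 : Fact (Nat.Prime 5) := ⟨Nat.prime_five⟩
  have h3 : Fact (Nat.Prime 3) := ⟨Nat.prime_three⟩
  obtain ⟨z, u, Q, v, ρ, D⟩ := KFacts.J2.Facts.exists_dat_of h
  have hF := D.F
  have hG := J2Type.Order.card_of_fus hF
  obtain ⟨P⟩ : Nonempty (Sylow 5 X) := inferInstance
  obtain ⟨-, h25, h300, X₁, Y₁, hX, hY, hXY, -⟩ := J2Type.FiveFus.sylow_five hF P
  obtain ⟨c, hc⟩ := exists_prime_orderOf_dvd_card' (G := normalizer ((P : Subgroup X) : Set X)) 3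
    (by rw [h300]; norm_num)
  -- conjugates in `P`
  have hsyl : ∀ Z : Subgroup X, Nat.card Z = 5 → ∃ g : X, Z.map (MulAut.conj g).toMonoidHom ≤ P := by
    intro Z hZ
    have h1 : IsPGroup 5 Z := IsPGroup.of_card (n := 1) (by rw [hZ, pow_one])
    obtain ⟨P', hP'⟩ := h1.exists_le_sylow
    obtain ⟨g, hg⟩ := MulAction.exists_smul_eq X P' P
    refine ⟨g, ?_⟩
    rintro _ ⟨y, hy, rfl⟩
    rw [← hg, Sylow.coe_subgroup_smul]
    exact Subgroup.smul_mem_pointwise_smul y (MulAut.conj g) _ (hP' hy)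
  have hexp : ∀ g ∈ (P : Subgroup X), g ^ 5 = 1 := by
    intro g hg
    have h1 : orderOf g ∣ 5 ^ 2 := by
      have := Subgroup.orderOf_dvd_natCard (P : Subgroup X) hg
      rwa [h25] at this
    obtain ⟨j, hj, hjo⟩ := (Nat.dvd_prime_pow Nat.prime_five).1 h1
    have h2 : j = 0 ∨ j = 1 ∨ j = 2 := by omega
    rcases h2 with h2 | h2 | h2
    · rw [h2, pow_zero, orderOf_eq_one_iff] at hjo
      rw [hjo, one_pow]
    · rw [h2, pow_one] at hjo
      rw [← hjo, pow_orderOf_eq_one]
    · exfalso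
      have h4 : zpowers g = P := Subgroup.eq_of_le_of_card_ge (zpowers_le.2 hg) (by
        rw [h25, Nat.card_zpowers, hjo, h2]; norm_num)
      have h6 : IsCyclic (P : Subgroup X) := by rw [← h4]; infer_instance
      obtain ⟨a, ha⟩ := hsyl X₁ hX
      obtain ⟨b, hb⟩ := hsyl Y₁ hY
      have h7 := eq_of_cyclic (P : Subgroup X) ha hb
        (by rw [Subgroup.card_map_of_injective (MulAut.conj a).injective, hX])
        (by rw [Subgroup.card_map_of_injective (MulAut.conj b).injective, hY])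
      apply hXY (b⁻¹ * a)
      have h8 : (MulAut.conj (b⁻¹ * a)).toMonoidHom = (MulAut.conj b⁻¹).toMonoidHom.comp (MulAut.conj a).toMonoidHom := by
        ext x
        simp [mul_assoc]
      rw [h8, ← Subgroup.map_map, h7, Subgroup.map_map]
      have h9 : (MulAut.conj b⁻¹).toMonoidHom.comp (MulAut.conj b).toMonoidHom = MonoidHom.id X := by
        ext x
        simp only [mul_assoc, _root_.map_inv, _root_.MulEquiv.toMonoidHom_eq_coe, _root_.MonoidHom.coe_comp, _root_.MonoidHom.coe_coe, _root_.MulAut.coe_inv, _root_.Function.comp_apply, _root_.MulAut.conj_apply, _root_.MulAut.conj_symm_apply, _root_.inv_mul_cancel_left, _root_.inv_mul_cancel, _root_.mul_one, _root_.MonoidHom.id_apply]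
      rw [h9, Subgroup.map_id]
  refine ⟨P, c, h25, hexp, fun g hg h hh => J2Type.SylowFive.comm_of_mem hG P hg hh, ?_, ?_⟩
  · rw [Subgroup.orderOf_coe, hc]
  · intro g hg
    exact (mem_normalizer_iff.1 c.2 g).1 hg

end Cfsg.Agent.H884.Od8
end

-- part: H884/Od8/Row
section
/-!
# S3561: the row of `Ω⁺₈(2)` (helper884)
-/

set_option autoImplicit false
set_option maxRecDepth 100000

namespace Cfsg.Agent.H884.Od8

open Subgroup Cfsg Cfsg.Agent Cfsg.Agent.H57.BG Cfsg.Agent.H503 Cfsg.Agent.H503.BG Cfsg.Agent.H503.El.O8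
open Cfsg.Agent.H970.StabNum

attribute [local instance] act8

/-- the quadratic form -/
def QQ (v : Multiplicative (I8 → ZMod 2)) : ZMod 2 := Q8 (Multiplicative.toAdd v)

theorem term_eq : ∀ a b c d e f : ZMod 2, (a + b + c) * (d + e + f) + (a + b) * (d + e) + (a + c) * (d + f) +
    (b + c) * (e + f) + a * d + b * e + c * f = 0 := by decide +kernel

theorem quad8 (u v w : I8 → ZMod 2) :
    Q8 (u + v + w) + Q8 (u + v) + Q8 (u + w) + Q8 (v + w) + Q8 u + Q8 v + Q8 w = 0 := by
  unfold Q8 quadFormPlus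
  simp only [Pi.add_apply, ← Finset.sum_add_distrib]
  exact Finset.sum_eq_zero fun i _ => term_eq _ _ _ _ _ _

theorem cardQ8 : (Finset.univ.filter fun v : I8 → ZMod 2 => Q8 v = 0).card = 136 := by decide +kernel

/-- the situation for the elementary abelian subgroups of order `25` -/
theorem sit8 (E : Subgroup S8) (hE : Nat.card E = 25) (hp : ∀ g ∈ E, g ^ 5 = 1)
    (hc : ∀ g ∈ E, ∀ h ∈ E, g * h = h * g) : Sit QQ E where
  cardV := card_v8
  faith g hg := by
    have h1 : rho g = 1 := El.actOf_basis rho g fun i => hg _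
    exact rho_injective (h1.trans (map_one _).symm)
  sq := sq8
  inv g v := rho_iso g _
  quad u v w := quad8 _ _ _
  cardQ := by
    have h1 : Nat.card {v : Multiplicative (I8 → ZMod 2) // QQ v = 0} = Nat.card {v : I8 → ZMod 2 // Q8 v = 0} :=
      Nat.card_congr (Equiv.subtypeEquiv Multiplicative.toAdd fun v => Iff.rfl)
    rw [h1, Nat.card_eq_fintype_card, Fintype.card_subtype]
    exact cardQ8
  cardE := hE
  pow := hp
  comm := hc

private theorem tr_e {S T : Type} [Group S] [Group T] (e : T ≃* S) {E : Subgroup T} (hE : Nat.card E = 25)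
    (hp : ∀ g ∈ E, g ^ 5 = 1) (hc : ∀ g ∈ E, ∀ h ∈ E, g * h = h * g) :
    (Nat.card (E.map e.toMonoidHom) = 25 ∧ (∀ g ∈ E.map e.toMonoidHom, g ^ 5 = 1) ∧
      ∀ g ∈ E.map e.toMonoidHom, ∀ h ∈ E.map e.toMonoidHom, g * h = h * g) ∧
    ∀ t : T, orderOf (e t) = orderOf t ∧ ((∀ g ∈ E, t * g = g * t) → ∀ g ∈ E.map e.toMonoidHom, e t * g = g * e t) ∧
      ((∀ g ∈ E, t * g * t⁻¹ ∈ E) → ∀ g ∈ E.map e.toMonoidHom, e t * g * (e t)⁻¹ ∈ E.map e.toMonoidHom) := by
  refine ⟨⟨?_, ?_, ?_⟩, fun t => ⟨e.orderOf_eq t, fun hct => ?_, fun hcz => ?_⟩⟩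
  · rw [Subgroup.card_map_of_injective e.injective, hE]
  · rintro _ ⟨g, hg, rfl⟩
    rw [← map_pow, hp g hg, map_one]
  · rintro _ ⟨g, hg, rfl⟩ _ ⟨h, hh, rfl⟩
    rw [← map_mul, hc g hg h hh, map_mul]
  · rintro _ ⟨g, hg, rfl⟩
    show e t * e g = e g * e t
    rw [← map_mul, hct g hg, map_mul]
  · rintro _ ⟨g, hg, rfl⟩
    refine ⟨t * g * t⁻¹, hcz g hg, ?_⟩
    show e (t * g * t⁻¹) = e t * e g * (e t)⁻¹
    rw [map_mul, map_mul, map_inv]

private theorem no8 {T : Type} [Group T] [Finite T] (e : T ≃* S8) {E : Subgroup T} (hE : Nat.card E = 25)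
    (hp : ∀ g ∈ E, g ^ 5 = 1) (hc : ∀ g ∈ E, ∀ h ∈ E, g * h = h * g) (t : T) :
    (orderOf t = 2 → (∀ g ∈ E, t * g = g * t) → False) ∧ (orderOf t = 3 → (∀ g ∈ E, t * g * t⁻¹ ∈ E) → False) := by
  haveI : Finite S8 := Finite.of_equiv T e.toEquiv
  obtain ⟨⟨h1, h2, h3⟩, h4⟩ := tr_e e hE hp hc
  obtain ⟨h5, h6, h7⟩ := h4 t
  exact ⟨fun ht h => (sit8 _ h1 h2 h3).no_two (h5.trans ht) (h6 h),
    fun ht h => (sit8 _ h1 h2 h3).no_three_norm (h5.trans ht) (h7 h)⟩

theorem no_three8 {E : Subgroup T8} (hE : Nat.card E = 25) (hp : ∀ g ∈ E, g ^ 5 = 1)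
    (hc : ∀ g ∈ E, ∀ h ∈ E, g * h = h * g) {z : T8} (hz : orderOf z = 3) (hcz : ∀ g ∈ E, z * g * z⁻¹ ∈ E) : False :=
  (no8 e8.symm hE hp hc z).2 hz hcz

/-- the elements of order dividing `5` of `inner A` -/
private theorem exists_E {T8 : Type} [Group T8] [Finite T8] (card_t8 : Nat.card T8 = 174182400) {A : Subgroup (MulAut T8)} {L : Subgroup T8} (h : Reg A L) (hc : center T8 = ⊥)
    (hd : 5 ∣ L.index) (hout : ¬ 5 ∣ (Inn T8).index) :
    ∃ E : Subgroup T8, E ≤ _root_.Cfsg.Agent.H57.BG.inner A ∧ Nat.card E = 25 ∧ ∀ g ∈ E, g ^ 5 = 1 := by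
  haveI : Fact (Nat.Prime 5) := ⟨Nat.prime_five⟩
  obtain ⟨x, y, hx, hy, hxo, hyo, hyx⟩ := h.exists_pair hc Nat.prime_five hd hout
  set E : Subgroup T8 :=
    { carrier := {s | s ∈ _root_.Cfsg.Agent.H57.BG.inner A ∧ s ^ 5 = 1}
      one_mem' := ⟨one_mem _, one_pow 5⟩
      mul_mem' := by
        rintro a b ⟨ha, ha'⟩ ⟨hb, hb'⟩
        exact ⟨mul_mem ha hb, by rw [(show Commute a b from h.inner_comm hc ha hb).mul_pow, ha', hb', one_mul]⟩
      inv_mem' := by
        rintro a ⟨ha, ha'⟩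
        exact ⟨inv_mem ha, by rw [inv_pow, ha', inv_one]⟩ } with hE
  have hEp : IsPGroup 5 E := fun s => ⟨1, by rw [pow_one]; exact Subtype.ext s.2.2⟩
  have hxE : x ∈ E := ⟨hx, by rw [← hxo]; exact pow_orderOf_eq_one x⟩
  have hyE : y ∈ E := ⟨hy, by rw [← hyo]; exact pow_orderOf_eq_one y⟩
  refine ⟨E, fun s hs => hs.1, ?_, fun s hs => hs.2⟩
  obtain ⟨k, hk⟩ := hEp.exists_card_eq
  have h1 : 5 ^ k ∣ 174182400 := by rw [← hk, ← card_t8]; exact Subgroup.card_subgroup_dvd_card E
  have h2 : k ≤ 2 := by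
    by_contra hcon
    have h3 : 5 ^ 3 ∣ 5 ^ k := pow_dvd_pow 5 (by omega)
    exact absurd (h3.trans h1) (by norm_num)
  have h3 : 2 ≤ k := by
    by_contra hcon
    apply hyx
    have h4 : zpowers x = E := by
      refine Subgroup.eq_of_le_of_card_ge (zpowers_le.2 hxE) ?_
      rw [hk, Nat.card_zpowers, hxo]
      calc 5 ^ k ≤ 5 ^ 1 := Nat.pow_le_pow_right (by norm_num) (by omega)
        _ = 5 := by norm_num
    rw [h4]
    exact hyE
  have h4 : k = 2 := by omega
  rw [hk, h4]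
  norm_num

variable (OT : OrdDiv.OrderTable.{0})
  (hS : ∀ (X : Type) [Group X] [Finite X] [IsSimpleGroup X], Cfsg.IsKnownSimple' X)

include OT hS

private theorem row_a {T8 : Type} [Group T8] [Finite T8] [IsSimpleGroup T8] (card_t8 : Nat.card T8 = 174182400)
    (e : T8 ≃* S8) (hA : Nat.card (MulAut T8) = 6 * Nat.card T8)
    (hex : ∃ R : Subgroup T8, Nat.card R = 7 ∧ centralizer (R : Set T8) = R) (h3a : H498.Ab.Ab3 T8) : Row T8 := by
  classical
  haveI h7p : Fact (Nat.Prime 7) := ⟨by norm_num⟩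
  haveI : Fact (Nat.Prime 2) := ⟨Nat.prime_two⟩
  have hc := center_bot card_t8 (p := 2) (by norm_num) (by norm_num) (by norm_num)
  have hout : (Inn T8).index = 6 := index_of_card hc hA
  have hent : ∀ P : Subgroup T8, Nat.card P = 7 → Nat.card (centralizer (P : Set T8)) ∣ 7 * 1 ∧
      Nat.card (normalizer (P : Set T8)) ∣ 7 * 6 :=
    El.entry_of_ex (by norm_num) card_t8 (by norm_num) (by norm_num) (by decide +kernel) hex
  intro A L h
  have h1 := mem_of_ex3 h OT hS hc (p := 7) (M := 6) (l := [(2, 12), (3, 5), (5, 2), (7, 1)]) (ps := [2, 3, 5, 7])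
    (tbl := [60, 168, 360, 504, 2520, 6048, 20160, 25920, 181440, 604800, 1451520, 1814400, 174182400]) card_t8
    (by norm_num) (by norm_num) (by norm_num) (by decide +kernel) (by decide +kernel) hex
    h3a hout
  have h2 : (((subR 174182400 [(2, 12), (3, 5), (5, 2), (7, 1)] [(7, 1, 6)] [2, 3, 5, 7]
      [60, 168, 360, 504, 2520, 6048, 20160, 25920, 181440, 604800, 1451520, 1814400, 174182400] 6).filter
      fun h => !kill3 174182400 [(2, 12), (3, 5), (5, 2), (7, 1)] 6 h).all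
      fun h => h == 96768 || (h == 258048 || h == 604800)) = true := by decide +kernel
  rw [List.all_eq_true] at h2
  have h2' := h2 _ h1
  rw [Bool.or_eq_true, Bool.or_eq_true, beq_iff_eq, beq_iff_eq, beq_iff_eq] at h2'
  have hidx : Nat.card L * L.index = 174182400 := by rw [L.card_mul_index, card_t8]
  rcases h2' with h2 | h2 | h2
  · -- the index `1800`
    have h3 : L.index = 1800 := by rw [h2] at hidx; omega
    obtain ⟨E, hEA, hE, hE5⟩ := exists_E card_t8 h hc (by rw [h3]; norm_num) (by rw [hout]; norm_num)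
    obtain ⟨t, htA, hto⟩ := h.exists_inner hc Nat.prime_two (k := 3) (by rw [h3]; norm_num) (by rw [hout]; norm_num)
    exact (no8 e hE hE5 (fun g hg g' hg' => h.inner_comm hc (hEA hg) (hEA hg')) t).1 hto
      fun g hg => h.inner_comm hc htA (hEA hg)
  · -- the index `675`
    have h3 : L.index = 675 := by rw [h2] at hidx; omega
    obtain ⟨E, hEA, hE, hE5⟩ := exists_E card_t8 h hc (by rw [h3]; norm_num) (by rw [hout]; norm_num)
    obtain ⟨t, htA, hto⟩ := h.exists_inner hc Nat.prime_three (k := 3) (by rw [h3]; norm_num) (by rw [hout]; norm_num)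
    refine (no8 e hE hE5 (fun g hg g' hg' => h.inner_comm hc (hEA hg) (hEA hg')) t).2 hto fun g hg => ?_
    rw [h.inner_comm hc htA (hEA hg), mul_inv_cancel_right]
    exact hg
  -- `L ≅ J₂`
  have hR7 : 7 ∣ Nat.card L := by rw [h2]; norm_num
  have hR49 : ¬ 7 ^ 2 ∣ Nat.card L := by rw [h2]; norm_num
  obtain ⟨x, hx⟩ := exists_prime_orderOf_dvd_card' 7 hR7
  have hP : Nat.card (zpowers x) = 7 := by rw [Nat.card_zpowers, hx]
  have hPm : Nat.card ((zpowers x).map L.subtype) = 7 := by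
    rw [← hP]
    exact (Nat.card_congr ((zpowers x).equivMapOfInjective _ L.subtype_injective).toEquiv).symm
  obtain ⟨L₁, hLn, B, hBn, hs, hA7, hPL, hcard, h7, D, m, hN, hDC, hDA, hpow⟩ := El.Struct.exists_struct' hP hR49
  have hC7 : Nat.card (centralizer ((zpowers x : Subgroup L) : Set L)) ∣ 7 :=
    (El.Fix.card_cent_map L.subtype_injective _).trans (by simpa only [_root_.MonoidHom.map_zpowers, _root_.Subgroup.subtype_apply, _root_.Nat.card_eq_fintype_card, _root_.mul_one] using (hent _ hPm).1)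
  have hN42 : Nat.card (normalizer ((zpowers x : Subgroup L) : Set L)) ∣ 42 :=
    (El.Fix.card_norm_map L.subtype_injective _).trans (hent _ hPm).2
  have hD1 : D = 1 := by
    rcases (Nat.dvd_prime h7p.out).1 (hDC.trans hC7) with h3 | h3
    · exact h3
    · exact absurd (h3 ▸ hDA) hA7
  subst hD1
  have hc6 : L₁.index ∣ 6 := by
    rw [hN] at hN42
    have h3 : L₁.index * m * 7 ∣ 6 * 7 := by
      have h4 : L₁.index * (1 * (7 * m)) = L₁.index * m * 7 := by ring
      rw [h4] at hN42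
      exact hN42
    exact (Dvd.intro _ rfl).trans (Nat.dvd_of_mul_dvd_mul_right (by norm_num) h3)
  have hpow' : ∀ r : ℕ, r.Prime → r ^ ((Nat.card B).factorization r) ≡ 1 [MOD 7] := by
    intro r hr
    obtain ⟨j, hj, hj'⟩ := hpow r hr
    rwa [Nat.dvd_one.1 hj] at hj'
  set a := Nat.card B with ha
  set s := Nat.card (L₁ ⧸ B) with hsd
  set c := L₁.index with hcd
  have ha0 : a ≠ 0 := (Nat.card_pos (α := B)).ne'
  have hadvd : a ∣ Nat.card L := ⟨s * c, by rw [hcard]; ring⟩
  have hsdvd : s ∣ Nat.card L := ⟨a * c, by rw [hcard]; ring⟩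
  have h5a : ¬ 5 ∣ a := by
    intro h3
    have h4 := hpow' 5 (by norm_num)
    have h5 : 1 ≤ a.factorization 5 := ((by norm_num : Nat.Prime 5).dvd_iff_one_le_factorization ha0).1 h3
    have h6 : ¬ 3 ≤ a.factorization 5 := fun h6 => by
      have h7 := (((by norm_num : Nat.Prime 5).pow_dvd_iff_le_factorization ha0).2 h6).trans hadvd
      rw [h2] at h7
      exact absurd h7 (by norm_num)
    have h7 : a.factorization 5 = 1 ∨ a.factorization 5 = 2 := by omega
    rcases h7 with h7 | h7 <;> rw [h7] at h4 <;> exact absurd h4 (by decide)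
  have h5c : ¬ 5 ∣ c := fun h3 => by
    have := h3.trans hc6
    omega
  have h25s : 25 ∣ s := by
    have hR25 : 25 ∣ Nat.card L := by rw [h2]; norm_num
    rw [hcard] at hR25
    have h3 : Nat.Coprime 25 a := by
      rw [show (25 : ℕ) = 5 ^ 2 by norm_num]
      exact Nat.Coprime.pow_left _ ((Nat.Prime.coprime_iff_not_dvd (by norm_num)).2 h5a)
    have h4 : Nat.Coprime 25 c := by
      rw [show (25 : ℕ) = 5 ^ 2 by norm_num]
      exact Nat.Coprime.pow_left _ ((Nat.Prime.coprime_iff_not_dvd (by norm_num)).2 h5c)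
    exact h3.dvd_of_dvd_mul_left (h4.dvd_of_dvd_mul_right hR25)
  have hna : ¬ ∀ u v : L₁ ⧸ B, u * v = v * u := by
    intro hab
    letI : CommGroup (L₁ ⧸ B) := { (inferInstance : Group (L₁ ⧸ B)) with mul_comm := hab }
    have h3 : s.Prime := IsSimpleGroup.prime_card (α := L₁ ⧸ B)
    have h4 : 7 = s := (Nat.prime_dvd_prime_iff_eq h7p.out h3).1 h7
    (clear * - h25s h4; omega)
  have hsT : s ∣ Nat.card T8 := hsdvd.trans (Subgroup.card_subgroup_dvd_card L)
  have hD : Data T8 [(7, 1, 6)] [2, 3, 5, 7]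
      [60, 168, 360, 504, 2520, 6048, 20160, 25920, 181440, 604800, 1451520, 1814400, 174182400] := by
    refine El.mk_data OT hS (l := [(2, 12), (3, 5), (5, 2), (7, 1)]) card_t8 (by decide +kernel) ?_
    intro x hx
    rw [List.mem_singleton] at hx
    subst hx
    exact hent
  have hstbl := hD.tbl (L₁ ⧸ B) hs hna hsT
  have hs4 : s ∣ 604800 := by rw [← h2]; exact hsdvd
  have hs6 : s = 604800 := by
    have h3 : ∀ s ∈ [60, 168, 360, 504, 2520, 6048, 20160, 25920, 181440, 604800, 1451520, 1814400, 174182400],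
        25 ∣ s → s ∣ 604800 → s = 604800 := by decide +kernel
    exact h3 _ hstbl h25s hs4
  have hac : a * c = 1 := by
    rw [hcard, hs6] at h2
    linarith only [h2]
  have ha1 : a = 1 := Nat.eq_one_of_mul_eq_one_right hac
  have hc1 : c = 1 := Nat.eq_one_of_mul_eq_one_left hac
  have hAb : B = ⊥ := Subgroup.eq_bot_of_card_eq _ ha1
  have hLt : L₁ = ⊤ := Subgroup.index_eq_one.1 hc1
  obtain ⟨g, hg, hreal⟩ := OrdDiv.exists_real_filter OT (S := L₁ ⧸ B) (hS _) hna
    (l := [(2, 12), (3, 5), (5, 2), (7, 1)]) (N := 174182400) (by decide +kernel) (by rw [← card_t8]; exact hsT)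
    (fun o => o == 604800) (by rw [← hsd, hs6]; rfl)
  have hj : ((OrdDiv.cands [(2, 12), (3, 5), (5, 2), (7, 1)] 174182400).filter
      fun g => OrdDiv.ordN g == 604800).all (fun g => match g with
        | .j2 => true
        | _ => false) = true := by decide +kernel
  rw [List.all_eq_true] at hj
  have hj' := hj g hg
  have hJ : Spor.IsoJ2 (L₁ ⧸ B) := by
    cases g <;> first | exact hreal | exact absurd hj' Bool.false_ne_true
  obtain ⟨eJ⟩ := hJ
  subst hAb
  have hJL : Spor.IsoJ2 L := ⟨(((QuotientGroup.quotientBot).trans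
    ((MulEquiv.subgroupCongr hLt).trans Subgroup.topEquiv)).symm).trans eJ⟩
  obtain ⟨P, z, hP25, hP5, hPc, hz, hnz⟩ := j2_five hJL
  refine (no8 e (E := P.map L.subtype) ?_ ?_ ?_ (z : T8)).2 ?_ ?_
  · rw [Subgroup.card_map_of_injective L.subtype_injective, hP25]
  · rintro _ ⟨g, hg, rfl⟩
    rw [← map_pow, hP5 g hg, map_one]
  · rintro _ ⟨g, hg, rfl⟩ _ ⟨g', hg', rfl⟩
    rw [← map_mul, hPc g hg g' hg', map_mul]
  · rw [Subgroup.orderOf_coe, hz]
  · rintro _ ⟨g, hg, rfl⟩
    exact ⟨z * g * z⁻¹, hnz g hg, rfl⟩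

/-- **The row of `Ω⁺₈(2)`** -/
theorem row_t8 : Row T8 := by
  have this := S0817.result (F := ZMod 2) 2 1 le_rfl (by rw [ZMod.card]; norm_num) 4 le_rfl
  rw [if_pos rfl, if_pos rfl] at this
  exact row_a OT hS card_t8 e8.symm this (H732.SelfCent.omega8plus_selfcent (F := ZMod 2) (ZMod.card 2))
    (H152.AbClassical.ab3_POmegaPlus (F := ZMod 2) (m := 4) le_rfl)

/-- **The row of `POmega⁺₈(F)`, `|F| = 2`** -/
theorem row_o82 (F : Type) [Field F] [Fintype F] (hF : Fintype.card F = 2) : Row (POmega F (quadFormPlus 4 F)) :=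
  Row.congr (El.pomCongr hF).symm (row_t8 OT hS)

end Cfsg.Agent.H884.Od8
end
end

-- part: H57/BG/Level
section
prune_inst 0x3030250474220000001800000000006072000002004000002000000001898440a0010801b230001010a09044503c0048110000004000000000003000011e01a00000020200000000000000000000000000000000000000000000000000000000000000000
set_option linter.all false
open scoped Cfsg.Agent.FastGrp

/-!
# The index of the stabiliser of a nonsingular point in `PΩ(Q)` (S3561, helper57)

* `level_dvd` : `#{u | Q u = Q v} ∣ 2 |O : Ω| |T : M|` for `M ≤ PΩ(Q)` fixing `⟨v⟩`, `Q v ≠ 0`;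
* `level_dvd_two` : `#{u | Q u = Q v} ∣ |O : Ω| |T : M|` in characteristic two;
* `plus_level`, `odd_level` : the numbers for the standard forms.
-/

set_option autoImplicit false
set_option linter.unusedSectionVars false

namespace Cfsg.Agent.H57.BG

open Module QuadraticMap Cfsg Cfsg.Geo Cfsg.Agent.H957
open Cfsg.Agent.H884.El (pre)
open scoped MatrixGroups Matrix

section Orbit

variable {G X : Type*} [Group G] [Finite G] [MulAction G X]

theorem card_orbit_dvd (N : Subgroup G) (v w : X) (h : ∀ g ∈ N, g • v = v ∨ g • v = w) :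
    Nat.card (MulAction.orbit G v) ∣ 2 * N.index := by
  have h1 : (MulAction.stabilizer G v).index = Nat.card (MulAction.orbit G v) := by
    rw [MulAction.index_stabilizer]
    rfl
  have h2 : ((MulAction.stabilizer G v).subgroupOf N).index ∣ 2 := by
    have h3 : (MulAction.stabilizer G v).subgroupOf N = MulAction.stabilizer N v := by
      ext g
      rw [Subgroup.mem_subgroupOf, MulAction.mem_stabilizer_iff, MulAction.mem_stabilizer_iff]
      rfl
    rw [h3, MulAction.index_stabilizer]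
    have h4 : MulAction.orbit N v ⊆ {v, w} := by
      rintro _ ⟨g, rfl⟩
      rcases h g g.2 with h5 | h5
      · left; exact h5
      · right; exact h5
    have h5 : (MulAction.orbit N v).ncard ≤ 2 := by
      refine (Set.ncard_le_ncard h4 (by simp)).trans ?_
      exact Set.ncard_insert_le _ _ |>.trans (by rw [Set.ncard_singleton])
    have h6 : 0 < (MulAction.orbit N v).ncard := by
      rw [Set.ncard_pos (Set.Finite.subset (by simp) h4)]
      exact ⟨v, MulAction.mem_orbit_self v⟩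
    have h7 : (MulAction.orbit N v).ncard = 1 ∨ (MulAction.orbit N v).ncard = 2 := by omega
    rcases h7 with h7 | h7
    · rw [h7]; exact one_dvd _
    · rw [h7]
  have h3 : (MulAction.stabilizer G v).relIndex N * N.index = (MulAction.stabilizer G v ⊓ N).index := by
    rw [← Subgroup.inf_relIndex_right]
    exact Subgroup.relIndex_mul_index inf_le_right
  rw [← h1]
  have h4 : (MulAction.stabilizer G v).index ∣ (MulAction.stabilizer G v ⊓ N).index :=
    Subgroup.index_dvd_of_le inf_le_left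
  rw [← h3] at h4
  exact h4.trans (Nat.mul_dvd_mul_right h2 _)

theorem card_orbit_dvd' (N : Subgroup G) (v : X) (h : ∀ g ∈ N, g • v = v) :
    Nat.card (MulAction.orbit G v) ∣ N.index := by
  have h1 : (MulAction.stabilizer G v).index = Nat.card (MulAction.orbit G v) := by
    rw [MulAction.index_stabilizer]
    rfl
  rw [← h1]
  exact Subgroup.index_dvd_of_le fun g hg => MulAction.mem_stabilizer_iff.2 (h g hg)

end Orbit

section Level

variable {ι : Type} [Fintype ι] [DecidableEq ι] {F : Type*} [Field F]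

/-- the action on vectors -/
@[reducible] def actV (Q : (ι → F) → F) : MulAction (isometryGroup F Q) (ι → F) where
  smul g v := ((g : GL ι F) : Matrix ι ι F) *ᵥ v
  one_smul v := by
    show (((1 : isometryGroup F Q) : GL ι F) : Matrix ι ι F) *ᵥ v = v
    simp
  mul_smul g h v := by
    show (((g * h : isometryGroup F Q) : GL ι F) : Matrix ι ι F) *ᵥ v = _ *ᵥ (_ *ᵥ v)
    rw [Subgroup.coe_mul, Units.val_mul, Matrix.mulVec_mulVec]

/-- `M` as a subgroup of the isometry group -/
def up (Q : (ι → F) → F) (M : Subgroup (POmega F Q)) : Subgroup (isometryGroup F Q) :=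
  (M.comap (QuotientGroup.mk' (Subgroup.center (Omega F Q)))).map (Omega F Q).subtype

theorem index_up (Q : (ι → F) → F) (M : Subgroup (POmega F Q)) : (up Q M).index = (Omega F Q).index * M.index := by
  unfold up
  rw [Subgroup.index_map_subtype, Subgroup.index_comap_of_surjective _ (QuotientGroup.mk'_surjective _), mul_comm]

theorem mem_pre_of_up {Q : (ι → F) → F} {M : Subgroup (POmega F Q)} {g : isometryGroup F Q} (hg : g ∈ up Q M) :
    (g : GL ι F) ∈ pre Q M := ⟨g, hg, rfl⟩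

variable [Finite F] (Q : QuadraticForm F (ι → F)) {M : Subgroup (POmega F (⇑Q))} {v : ι → F}

theorem orbit_eq (hQ : (polarBilin Q).Nondegenerate) (hv : Q v ≠ 0) :
    letI := actV (⇑Q)
    MulAction.orbit (isometryGroup F (⇑Q)) v = {u | Q u = Q v} := by
  letI := actV (⇑Q)
  ext u
  constructor
  · rintro ⟨g, rfl⟩
    exact mem_isometryGroup.1 g.2 v
  · intro hu
    obtain ⟨g, hg, -, hgv⟩ := witt_fix Q hQ ⊥ v u (by rw [Set.mem_ofPred_eq] at hu; exact hu.symm)
      (fun w hw => by rw [(Submodule.mem_bot F).1 hw]; simp) (fun w hw => by rw [(Submodule.mem_bot F).1 hw]; simp)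
      (fun h => hv (by rw [(Submodule.mem_bot F).1 h]; simp))
      (fun h => hv (by
        have h1 := (Submodule.mem_bot F).1 h
        rw [h1] at hu
        rw [← (show Q 0 = Q v from hu)]; simp))
    exact ⟨⟨glOf g, glOf_mem hg⟩, by
      show (glOf g : Matrix ι ι F) *ᵥ v = u
      rw [glOf_mulVec, hgv]⟩

theorem scalar_of (hM : pre (⇑Q) M ≤ subspaceStabilizer (Submodule.span F {v})) (hv : Q v ≠ 0)
    {g : isometryGroup F (⇑Q)} (hg : g ∈ up (⇑Q) M) : ∃ c : F, c * c = 1 ∧
      ((g : GL ι F) : Matrix ι ι F) *ᵥ v = c • v := by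
  have h1 := hM (mem_pre_of_up hg)
  have h2 : ((g : GL ι F) : Matrix ι ι F) *ᵥ v ∈ Submodule.span F {v} :=
    Cfsg.Agent.H884.OmegaGL.mem_subspaceStabilizer.1 h1 v (Submodule.mem_span_singleton_self v)
  obtain ⟨c, hc⟩ := Submodule.mem_span_singleton.1 h2
  refine ⟨c, ?_, hc.symm⟩
  have h3 : Q (((g : GL ι F) : Matrix ι ι F) *ᵥ v) = Q v := mem_isometryGroup.1 g.2 v
  rw [← hc, QuadraticMap.map_smul, smul_eq_mul] at h3
  exact mul_right_cancel₀ hv (by rw [h3, one_mul])

theorem level_dvd (hQ : (polarBilin Q).Nondegenerate) (hv : Q v ≠ 0)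
    (hM : pre (⇑Q) M ≤ subspaceStabilizer (Submodule.span F {v})) :
    Nat.card {u : ι → F // Q u = Q v} ∣ 2 * ((Omega F (⇑Q)).index * M.index) := by
  letI := actV (⇑Q)
  have h1 := card_orbit_dvd (up (⇑Q) M) v (-v) (fun g hg => by
    obtain ⟨c, hc, h⟩ := scalar_of Q hM hv hg
    have h2 : (c - 1) * (c + 1) = 0 := by linear_combination hc
    rcases mul_eq_zero.1 h2 with h3 | h3
    · left
      show ((g : GL ι F) : Matrix ι ι F) *ᵥ v = v
      rw [h, sub_eq_zero.1 h3, one_smul]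
    · right
      show ((g : GL ι F) : Matrix ι ι F) *ᵥ v = -v
      rw [h, eq_neg_of_add_eq_zero_left h3, neg_smul, one_smul])
  rw [index_up, orbit_eq Q hQ hv] at h1
  exact h1

theorem level_dvd_two (h2 : (2 : F) = 0) (hQ : (polarBilin Q).Nondegenerate) (hv : Q v ≠ 0)
    (hM : pre (⇑Q) M ≤ subspaceStabilizer (Submodule.span F {v})) :
    Nat.card {u : ι → F // Q u = Q v} ∣ (Omega F (⇑Q)).index * M.index := by
  letI := actV (⇑Q)
  have h1 := card_orbit_dvd' (up (⇑Q) M) v (fun g hg => by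
    obtain ⟨c, hc, h⟩ := scalar_of Q hM hv hg
    show ((g : GL ι F) : Matrix ι ι F) *ᵥ v = v
    rw [h, eq_of_sq_eq h2 (hc.trans (one_mul 1).symm), one_smul])
  rw [index_up, orbit_eq Q hQ hv] at h1
  exact h1

end Level

section Count

variable {F : Type*} [Field F] [Fintype F]

theorem plus_level {m : ℕ} (hm : 1 ≤ m) {c : F} (hc : c ≠ 0) :
    Nat.card {v : Fin m ⊕ Fin m → F // quadFormPlus m F v = c} =
      Fintype.card F ^ (m - 1) * (Fintype.card F ^ m - 1) := by
  classical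
  have h := Cfsg.Agent.LieClassical.QuadCount.card_plus (F := F) m c
  rw [if_neg hc, add_zero] at h
  have hq : 0 < Fintype.card F := Fintype.card_pos
  obtain ⟨k, rfl⟩ : ∃ k, m = k + 1 := ⟨m - 1, by omega⟩
  rw [Nat.add_sub_cancel]
  have h3 : Fintype.card F * (Nat.card {v : Fin (k + 1) ⊕ Fin (k + 1) → F // quadFormPlus (k + 1) F v = c} +
      Fintype.card F ^ k) = Fintype.card F * (Fintype.card F ^ k * Fintype.card F ^ (k + 1)) := by
    rw [mul_add]
    calc _ = Fintype.card F * Nat.card {v : Fin (k + 1) ⊕ Fin (k + 1) → F // quadFormPlus (k + 1) F v = c} +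
        Fintype.card F ^ (k + 1) := by rw [pow_succ]; ring
      _ = Fintype.card F ^ (2 * (k + 1)) := h
      _ = _ := by ring
  have h4 := Nat.eq_of_mul_eq_mul_left hq h3
  rw [Nat.mul_sub, mul_one]
  omega

theorem card_sq_eq (h2 : (2 : F) ≠ 0) {c : F} (hc : c ≠ 0) :
    Nat.card {w : F // w ^ 2 - c = 0} = 0 ∨ Nat.card {w : F // w ^ 2 - c = 0} = 2 := by
  classical
  by_cases hex : ∃ a : F, a ^ 2 = c
  · obtain ⟨a, ha⟩ := hex
    right
    have ha0 : a ≠ 0 := by
      rintro rfl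
      apply hc
      rw [← ha]; ring
    have h : (Finset.univ.filter fun w : F => w ^ 2 - c = 0) = {a, -a} := by
      ext w
      simp only [Finset.mem_filter, Finset.mem_univ, true_and, Finset.mem_insert, Finset.mem_singleton]
      constructor
      · intro h
        have h1 : (w - a) * (w + a) = 0 := by linear_combination h - ha
        rcases mul_eq_zero.1 h1 with h3 | h3
        · left; exact sub_eq_zero.1 h3
        · right; exact eq_neg_of_add_eq_zero_left h3
      · rintro (rfl | rfl)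
        · linear_combination ha
        · linear_combination ha
    rw [Nat.card_eq_fintype_card, Fintype.card_subtype, h, Finset.card_pair]
    intro h1
    have : 2 * a = 0 := by linear_combination h1
    rcases mul_eq_zero.1 this with h3 | h3
    · exact h2 h3
    · exact ha0 h3
  · left
    rw [Nat.card_eq_zero]
    left
    exact ⟨fun w => hex ⟨w.1, sub_eq_zero.1 w.2⟩⟩

theorem odd_level (h2 : (2 : F) ≠ 0) {m : ℕ} {c : F} (hc : c ≠ 0) :
    Nat.card {v : Unit ⊕ (Fin m ⊕ Fin m) → F // quadFormOdd m F v = c} =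
      Fintype.card F ^ m * (Fintype.card F ^ m - 1) ∨
    Nat.card {v : Unit ⊕ (Fin m ⊕ Fin m) → F // quadFormOdd m F v = c} =
      Fintype.card F ^ m * (Fintype.card F ^ m + 1) := by
  classical
  have h := Cfsg.Agent.LieClassical.QuadCount.card_sum (F := F) m (fun w : F => w ^ 2 - c)
  have h1 : Nat.card {p : (Fin m ⊕ Fin m → F) × F // quadFormPlus m F p.1 + (p.2 ^ 2 - c) = 0} =
      Nat.card {v : Unit ⊕ (Fin m ⊕ Fin m) → F // quadFormOdd m F v = c} := by
    refine Nat.card_congr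
      { toFun := fun p => ⟨Sum.elim (fun _ => p.1.2) p.1.1, ?_⟩
        invFun := fun v => ⟨(v.1 ∘ Sum.inr, v.1 (Sum.inl ())), ?_⟩
        left_inv := fun p => ?_
        right_inv := fun v => ?_ }
    · have := p.2
      show p.1.2 ^ 2 + quadFormPlus m F p.1.1 = c
      linear_combination this
    · have := v.2
      show quadFormPlus m F (v.1 ∘ Sum.inr) + (v.1 (Sum.inl ()) ^ 2 - c) = 0
      have h3 : v.1 (Sum.inl ()) ^ 2 + quadFormPlus m F (v.1 ∘ Sum.inr) = c := this
      linear_combination h3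
    · rfl
    · apply Subtype.ext
      funext i
      rcases i with i | i
      · rfl
      · rfl
  rw [h1] at h
  have hq : 0 < Fintype.card F := Fintype.card_pos
  set N := Nat.card {v : Unit ⊕ (Fin m ⊕ Fin m) → F // quadFormOdd m F v = c}
  rcases card_sq_eq h2 hc with h0 | h0
  · left
    rw [h0] at h
    have h3 : Fintype.card F * (N + Fintype.card F ^ m) = Fintype.card F * (Fintype.card F ^ m * Fintype.card F ^ m) := by
      rw [mul_add, h]
      ring
    have h4 := Nat.eq_of_mul_eq_mul_left hq h3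
    rw [Nat.mul_sub, mul_one]
    omega
  · right
    rw [h0] at h
    have h3 : Fintype.card F * (N + Fintype.card F ^ m) =
        Fintype.card F * (Fintype.card F ^ m * Fintype.card F ^ m + 2 * Fintype.card F ^ m) := by
      rw [mul_add, h]
      ring
    have h4 := Nat.eq_of_mul_eq_mul_left hq h3
    rw [mul_add, mul_one]
    omega

end Count

end Cfsg.Agent.H57.BG
end
end
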